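import Cfsg.Agent.HexStart.HexPure

/-!
# Subgroups containing the long root elements `x k 1`

* `not_mem_normal` : `x 4 1` lies in no 2-subgroup normalised by all `x k 1`, `k` even;
* `false_of_comm` : such a subgroup of (another) group `A'` of the same type does not centralise an involution of `A'`.
-/

set_option autoImplicit false
set_option linter.unusedSectionVars false

namespace Cfsg.Agent.HexStart

open Cfsg.Agent.SplitTwo Cfsg.Agent.StdRank2.Hex Cfsg.Agent.StdRank2.Hex.HexTwo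
open scoped commutatorElement

section

variable {E : Type*} [Field E] {σ : E ≃+* E} {G : Type*} [Group G] {x : ZMod 12 → E → G} (h : HexTwo σ x)
include h

/-- `x 4 1` lies in no 2-subgroup normalised by the long root elements `x k 1`. -/
theorem not_mem_normal {N : Subgroup G} (hN2 : IsPGroup 2 N)
    (hNn : ∀ k : ZMod 12, k.val % 2 = 0 → ∀ n ∈ N, x k 1 * n * (x k 1)⁻¹ ∈ N) : x 4 1 ∉ N := by
  intro h4
  have h46 : (4 : ZMod 12) + 6 = 10 := by decide
  have h106 : (10 : ZMod 12) + 6 = 4 := by decide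
  have c4 := hNn 4 (by decide)
  have c10 := hNn 10 (by decide)
  -- `x 10 1 ∈ N`
  have e1 := h.refl 4 4 (ok_one σ 4)
  rw [show (2 : ZMod 12) * 4 + 6 - 4 = 10 by decide] at e1
  have h10 : x 10 1 ∈ N := by
    rw [← e1]
    unfold nn
    rw [h46]
    have e2 : x 4 1 * x 10 1 * x 4 1 * x 4 1 * (x 4 1 * x 10 1 * x 4 1)⁻¹ =
        x 4 1 * (x 10 1 * (x 4 1 * x 4 1 * (x 4 1)⁻¹) * (x 10 1)⁻¹) * (x 4 1)⁻¹ := by group
    rw [e2]
    exact c4 _ (c10 _ (c4 _ h4))
  -- an element of order three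
  have e3 : (x 4 1 * x 10 1) ^ 3 = 1 := by
    have e4 : nn x 4 * nn x 10 = 1 := by
      have := h.nn_opp 4
      rw [h46] at this
      rw [this, h.nn_sq]
    unfold nn at e4
    rw [h46, h106] at e4
    rw [← e4, pow_succ, pow_two]
    group
  obtain ⟨n, hn⟩ := hN2 ⟨x 4 1 * x 10 1, mul_mem h4 h10⟩
  have hn' : (x 4 1 * x 10 1) ^ 2 ^ n = 1 := congrArg Subtype.val hn
  have e5 : x 4 1 * x 10 1 = 1 := by
    have h1 := orderOf_dvd_of_pow_eq_one hn'
    have h2 := orderOf_dvd_of_pow_eq_one e3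
    exact orderOf_eq_one_iff.1 (Nat.eq_one_of_dvd_coprimes (Nat.Coprime.pow_right n (by decide)) h2 h1)
  have e6 : x 4 1 = x 10 1 := by
    rw [eq_inv_of_mul_eq_one_left e5, h.x_inv (ok_one σ 10)]
  have e7 : x 4 1 = 1 := h.opp_one (x_mem_gen (by rw [mem_arc]; decide) (ok_one σ 4)) (by
    rw [e6]
    exact x_mem_gen (by rw [mem_arc]; decide) (ok_one σ 10))
  exact one_ne_zero (h.inj 4 1 (ok_one σ 4) e7)

/-- the commutator of `x 2 1` and `x 6 1` -/
theorem comm_x2_x6 : ⁅x 2 1, x 6 1⁆ = x 4 1 := by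
  have h1 := h.commL4 (k := 2) (by decide) (map_one σ) (map_one σ)
  rw [mul_one] at h1
  exact h1

/-- A subgroup of `A' = AA σ' y` containing the long root elements `x k 1` of a system `x` does not centralise an
involution of `A'`. -/
theorem false_of_comm [Finite E] [Finite G] {E' : Type*} [Field E'] [Finite E'] {σ' : E' ≃+* E'} {y : ZMod 12 → E' → G}
    (h' : HexTwo σ' y) {s : E'} (hs : s ≠ 0) (hs1 : s ≠ 1) (hsf : σ' s = s) {a : G} (ha : a ∈ AA σ' y)
    (ha2 : a * a = 1) (ha1 : a ≠ 1) (hx : ∀ k : ZMod 12, k.val % 2 = 0 → x k 1 ∈ AA σ' y)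
    (hxa : ∀ k : ZMod 12, k.val % 2 = 0 → x k 1 * a = a * x k 1) : False := by
  obtain ⟨N, hN2, -, hNc, hN⟩ := comm_normal h' hs hs1 hsf ha ha2 ha1
  apply not_mem_normal h hN2 fun k hk n hn => hNc _ (hx k hk) (hxa k hk) n hn
  have hP2 : IsPGroup 2 (Subgroup.closure ({x 2 1, x 6 1} : Set G)) := by
    refine h.isPGroup_U.to_le ?_
    rw [Subgroup.closure_le]
    rintro v (rfl | hv)
    · exact x_mem_gen (by rw [mem_arc]; decide) (ok_one σ 2)
    · rw [Set.mem_singleton_iff] at hv
      subst hv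
      exact x_mem_gen (by rw [mem_arc]; decide) (ok_one σ 6)
  have hPA : Subgroup.closure ({x 2 1, x 6 1} : Set G) ≤ AA σ' y := by
    rw [Subgroup.closure_le]
    rintro v (rfl | hv)
    · exact hx 2 (by decide)
    · rw [Set.mem_singleton_iff] at hv
      subst hv
      exact hx 6 (by decide)
  have hPa : Subgroup.closure ({x 2 1, x 6 1} : Set G) ≤ Subgroup.centralizer ({a} : Set G) := by
    rw [Subgroup.closure_le]
    rintro v (rfl | hv)
    · exact Subgroup.mem_centralizer_singleton_iff.mpr (hxa 2 (by decide))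
    · rw [Set.mem_singleton_iff] at hv
      subst hv
      exact Subgroup.mem_centralizer_singleton_iff.mpr (hxa 6 (by decide))
  rw [← comm_x2_x6 h]
  exact hN _ hP2 hPA (fun p hp => Subgroup.mem_centralizer_singleton_iff.mp (hPa hp)) _
    (Subgroup.subset_closure (Set.mem_insert _ _)) _
    (Subgroup.subset_closure (Set.mem_insert_of_mem _ (Set.mem_singleton _)))

end

end Cfsg.Agent.HexStart
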