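import Cfsg.Agent.StdEven.StepFour

/-!
# S1778, types `G2(q)` and `3D4(q)`, `q ≥ 4`: the facts on `A` used for the start

`T` is a Sylow 2-subgroup of `N(A)` as in `Loc.IsT`, `U = T ⊓ A`.

* `LongF` : long involutions, `Z = Z(U)`, `P1 = C_A(z)`;
* `ShortF` : short involutions `a`;
* `OutF` : outer involutions.
-/

set_option autoImplicit false
set_option linter.unusedSectionVars false

namespace Cfsg.Agent.HexStart

open Cfsg Subgroup Cfsg.Agent.SignalizersComponents Cfsg.Agent.StdEven.Syl Cfsg.Agent.StdEven.Loc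
open Cfsg.Agent.StdEven.Perf Cfsg.Agent.StdL2.Setup Cfsg.Agent.Schreier.Basic
open scoped commutatorElement

variable {G : Type*} [Group G]

/-- Perfect and generated by 2-elements. -/
structure P2 (D : Subgroup G) : Prop where
  perf : ⁅D, D⁆ = D
  gen : D ≤ closure {x | x ∈ D ∧ ∃ k : ℕ, x ^ 2 ^ k = 1}

/-- Facts on long involutions. -/
structure LongF (A U P1 Z : Subgroup G) : Prop where
  Z_iff : ∀ z, z ∈ Z ↔ z ∈ U ∧ ∀ u ∈ U, z * u = u * z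
  Z_two : ∀ z ∈ Z, z * z = 1
  U_P1 : U ≤ P1
  P1_A : P1 ≤ A
  P1_P2 : P2 P1
  P1_Z : ∀ p ∈ P1, ∀ z ∈ Z, p * z = z * p
  P1_max : ∀ z ∈ Z, z ≠ 1 → ∀ a ∈ A, a * z = z * a → (∃ k : ℕ, a ^ 2 ^ k = 1) → a ∈ P1
  /-- `N_A(U)` is transitive on `Z#` -/
  trans : ∀ z ∈ Z, ∀ z' ∈ Z, z ≠ 1 → z' ≠ 1 → ∃ h ∈ A, (∀ u ∈ U, h * u * h⁻¹ ∈ U) ∧ h * z * h⁻¹ = z'

/-- Facts on short involutions (`D ≤ C_A(a)` perfect and generated by 2-elements, `W ≤ D` and `Y` normal 2-subgroups of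
`C_A(a)`). -/
structure ShortF (A Z : Subgroup G) (a : G) (W Y D : Subgroup G) : Prop where
  a_A : a ∈ A
  W_sq : ∀ w ∈ W, w * w = 1
  W_comm : ∀ w ∈ W, ∀ w' ∈ W, w * w' = w' * w
  /-- the involutions of `W` are long -/
  W_long : ∀ w ∈ W, w ≠ 1 → ∃ c ∈ A, c * w * c⁻¹ ∈ Z
  /-- `a ~ a w` in `A` -/
  W_conj : ∀ w ∈ W, ∃ y ∈ A, y * a * y⁻¹ = a * w
  W_ne : ∃ w ∈ W, ∃ w' ∈ W, w ≠ 1 ∧ w' ≠ 1 ∧ w ≠ w'
  D_P2 : P2 D
  D_A : D ≤ A
  D_a : ∀ d ∈ D, d * a = a * d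
  W_D : W ≤ D
  Y_two : IsPGroup 2 Y
  trans : ∀ w ∈ W, ∀ w' ∈ W, w ≠ 1 → w' ≠ 1 → ∃ d ∈ D, d * w * d⁻¹ = w'
  W_norm : ∀ c ∈ A, c * a = a * c → ∀ w ∈ W, c * w * c⁻¹ ∈ W
  Y_norm : ∀ c ∈ A, c * a = a * c → ∀ y ∈ Y, c * y * c⁻¹ ∈ Y
  two : IsPGroup 2 ↥(A ⊓ centralizer ({a} : Set G) ⊓ centralizer (W : Set G))
  small : Nat.card ↥(A ⊓ centralizer ({a} : Set G) ⊓ centralizer (W : Set G) ⊓
    centralizer ((Y ⊓ D : Subgroup G) : Set G)) < Nat.card W * Nat.card W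
  /-- derived subgroups of 2-subgroups of `C_A(a)` centralise `W` -/
  comm : ∀ P : Subgroup G, IsPGroup 2 P → P ≤ A → (∀ p ∈ P, p * a = a * p) → ∀ p ∈ P, ∀ r ∈ P, ∀ w ∈ W,
    ⁅p, r⁆ * w = w * ⁅p, r⁆

/-- Facts on the outer involutions of `T` fused to `t`. -/
def OutF (A : Subgroup G) (t : G) (T : Subgroup G) : Prop :=
  ∀ f ∈ T, f * f = 1 → (¬ ∃ a ∈ A, a⁻¹ * f ∈ centralizer (A : Set G)) → (∃ g : G, g * t * g⁻¹ = f) →
    ∃ B : Subgroup G, P2 B ∧ B ≤ A ∧ (∀ x ∈ B, x * f = f * x) ∧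
      (∃ w ∈ B, w * w = 1 ∧ w ≠ 1 ∧ ∃ c : G, c * f * c⁻¹ = f * w) ∧
      (∀ N : Subgroup G, N ≤ B → IsPGroup 2 N → (∀ b ∈ B, ∀ n ∈ N, b * n * b⁻¹ ∈ N) → N = ⊥) ∧
      ∃ P : Subgroup G, P ≤ B ∧ IsPGroup 2 P ∧ ∃ p ∈ P, ∃ r ∈ P, p * r ≠ r * p

/-- Facts on the outer involutions of `T` fused to `t`, weak form: a commutator of elements of a 2-subgroup of `B` lying
in no normal 2-subgroup of `B`. -/
def OutW (A : Subgroup G) (t : G) (T : Subgroup G) : Prop :=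
  ∀ f ∈ T, f * f = 1 → (¬ ∃ a ∈ A, a⁻¹ * f ∈ centralizer (A : Set G)) → (∃ g : G, g * t * g⁻¹ = f) →
    ∃ B : Subgroup G, P2 B ∧ B ≤ A ∧ (∀ x ∈ B, x * f = f * x) ∧
      (∃ w ∈ B, w * w = 1 ∧ w ≠ 1 ∧ ∃ c : G, c * f * c⁻¹ = f * w) ∧
      ∃ P : Subgroup G, P ≤ B ∧ IsPGroup 2 P ∧ ∃ p ∈ P, ∃ r ∈ P, ∀ N : Subgroup G, N ≤ B → IsPGroup 2 N →
        (∀ b ∈ B, ∀ n ∈ N, b * n * b⁻¹ ∈ N) → ⁅p, r⁆ ∉ N

theorem OutF.weak {A : Subgroup G} {t : G} {T : Subgroup G} (h : OutF A t T) : OutW A t T := by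
  intro f hf hff hin hg
  obtain ⟨B, hB, hBA, hBf, hw, hN, P, hPB, hP, p, hp, r, hr, hpr⟩ := h f hf hff hin hg
  refine ⟨B, hB, hBA, hBf, hw, P, hPB, hP, p, hp, r, hr, fun N hNB hN2 hNn hmem => hpr ?_⟩
  rw [hN N hNB hN2 hNn, mem_bot, commutatorElement_eq_one_iff_mul_comm] at hmem
  exact hmem

theorem OutW.outer {A : Subgroup G} {t : G} {T : Subgroup G} (h : OutW A t T) : StdEven.StepFour.Outer A t T := by
  intro f hf hff hin hg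
  obtain ⟨B, hB, -, hBf, ⟨w, hw, hww, hw1, c, hc⟩, -⟩ := h f hf hff hin hg
  exact ⟨B, hB.perf, hBf, hB.gen, w, hw, hww, hw1, c, hc⟩

theorem OutF.outer {A : Subgroup G} {t : G} {T : Subgroup G} (h : OutF A t T) : StdEven.StepFour.Outer A t T :=
  h.weak.outer

namespace P2

/-- Conjugates. -/
theorem map {D : Subgroup G} (h : P2 D) (g : G) : P2 (D.map (MulAut.conj g).toMonoidHom) where
  perf := by rw [← Subgroup.map_commutator, h.perf]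
  gen := by
    rintro _ ⟨x, hx, rfl⟩
    have h2 : closure {x | x ∈ D ∧ ∃ k : ℕ, x ^ 2 ^ k = 1} ≤
        (closure {x | x ∈ D.map (MulAut.conj g).toMonoidHom ∧ ∃ k : ℕ, x ^ 2 ^ k = 1}).comap
          (MulAut.conj g).toMonoidHom := by
      rw [closure_le]
      rintro y ⟨hy, k, hk⟩
      apply Subgroup.subset_closure
      refine ⟨⟨y, hy, rfl⟩, k, ?_⟩
      rw [← map_pow, hk, map_one]
    exact h2 (h.gen hx)

theorem mem_of_two {D K : Subgroup G} (h : P2 D) (hK : ∀ x ∈ D, (∃ k : ℕ, x ^ 2 ^ k = 1) → x ∈ K) : D ≤ K :=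
  h.gen.trans ((closure_le _).mpr fun x hx => hK x hx.1 hx.2)

end P2

/-- The largest perfect subgroup generated by 2-elements of `C(s) ∩ C(t)`. -/
def Mc (s t : G) : Subgroup G := ⨆ D : {D : Subgroup G // P2 D ∧ ∀ x ∈ D, x * s = s * x ∧ x * t = t * x}, D.1

theorem le_Mc {s t : G} {D : Subgroup G} (h : P2 D) (hD : ∀ x ∈ D, x * s = s * x ∧ x * t = t * x) : D ≤ Mc s t :=
  le_iSup (fun D : {D : Subgroup G // P2 D ∧ ∀ x ∈ D, x * s = s * x ∧ x * t = t * x} => D.1) ⟨D, h, hD⟩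

theorem P2_Mc (s t : G) : P2 (Mc s t) where
  perf := by
    apply le_antisymm
    · rw [Subgroup.commutator_le]
      intro x hx y hy
      rw [commutatorElement_def]
      exact mul_mem (mul_mem (mul_mem hx hy) (inv_mem hx)) (inv_mem hy)
    · apply iSup_le
      rintro ⟨D, h, hD⟩
      show D ≤ _
      calc D = ⁅D, D⁆ := h.perf.symm
        _ ≤ _ := Subgroup.commutator_mono (le_Mc h hD) (le_Mc h hD)
  gen := by
    apply iSup_le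
    rintro ⟨D, h, hD⟩
    show D ≤ _
    refine h.gen.trans (closure_mono ?_)
    rintro x ⟨hx, hk⟩
    exact ⟨le_Mc h hD hx, hk⟩

theorem Mc_comm {s t x : G} (hx : x ∈ Mc s t) : x * s = s * x ∧ x * t = t * x := by
  have h1 : Mc s t ≤ centralizer ({s} : Set G) ⊓ centralizer ({t} : Set G) := by
    apply iSup_le
    rintro ⟨D, -, hD⟩
    intro y hy
    rw [mem_inf, mem_centralizer_singleton_iff, mem_centralizer_singleton_iff]
    exact hD y hy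
  have h2 := h1 hx
  rwa [mem_inf, mem_centralizer_singleton_iff, mem_centralizer_singleton_iff] at h2

end Cfsg.Agent.HexStart
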