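import Cfsg.Agent.HexStart.HexNoFix
import Cfsg.Agent.HexStart.Defs
import Cfsg.Agent.StdRank2.HexAdapt

/-!
# S1778, types `G2(q)`, `3D4(q)`: the facts on outer involutions

`exists_frame` : an involution of `T` not inducing an inner automorphism of `A` is a pure field automorphism in a
suitable frame; `outW` : the facts `OutW`.
-/

set_option autoImplicit false
set_option linter.unusedSectionVars false
set_option maxHeartbeats 400000

namespace Cfsg.Agent.HexStart

open Cfsg Subgroup Cfsg.Agent.SplitTwo Cfsg.Agent.StdRank2.Hex Cfsg.Agent.StdRank2.Hex.HexTwo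
open Cfsg.Agent.StdEven.Syl Cfsg.Agent.StdEven.Loc
open scoped commutatorElement

section

variable {E : Type*} [Field E] {σ : E ≃+* E} {G : Type*} [Group G] {x : ZMod 12 → E → G}

theorem val_even_add (k l : ZMod 12) (hk : k.val % 2 = 0) (hl : l.val % 2 = 0) : (k + l).val % 2 = 0 := by
  revert hl hk; revert l; revert k
  decide

/-- the frame of an outer involution -/
theorem exists_frame [Finite E] [Finite G] (h : HexTwo σ x) (hN : NotTwo σ) {T : Subgroup G} (hT : IsPGroup 2 T)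
    (hTn : T ≤ normalizer (AA σ x : Set G)) (hTA : T ⊓ AA σ x = UU σ x) {f : G} (hf : f ∈ T) (hff : f * f = 1)
    (hin : ¬ ∃ a ∈ AA σ x, a⁻¹ * f ∈ centralizer (AA σ x : Set G)) :
    ∃ (y : ZMod 12 → E → G) (τ : E ≃+* E), HexTwo σ y ∧ AA σ y = AA σ x ∧ Fld σ y f τ ∧ (∀ a, τ (τ a) = a) ∧
      (∃ b, σ b = b ∧ b + τ b = 1) ∧ ∃ c ∈ AA σ x, y = cj c x := by
  have hTA' : ∀ f ∈ T, ∀ v ∈ AA σ x, f * v * f⁻¹ ∈ AA σ x := fun f hf v hv =>
    (mem_normalizer_iff.mp (hTn hf) v).mp hv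
  have hTU : ∀ f ∈ T, ∀ v ∈ UU σ x, f * v * f⁻¹ ∈ UU σ x := fun f hf v hv => by
    rw [← hTA] at hv ⊢
    have h1 : f * v * f⁻¹ ∈ T := T.mul_mem (T.mul_mem hf hv.1) (T.inv_mem hf)
    exact ⟨h1, hTA' f hf v hv.2⟩
  obtain ⟨s, hs, hall⟩ := adapted h hN hT hTA' hTU
  obtain ⟨u, hu, τ, -, hP⟩ := hall f hf
  have hP' : Fld σ (cj s x) (u * f) τ := hP
  have hsA : s ∈ AA σ x := h.H_le_AA hs
  have h' : HexTwo σ (cj s x) := h.conj s
  have hAA : AA σ (cj s x) = AA σ x := AA_cj fun v hv => mul_mem (mul_mem hsA hv) (inv_mem hsA)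
  have hu' : u⁻¹ ∈ UU σ (cj s x) := by
    change u⁻¹ ∈ gen σ (cj s x) (arc 1 6)
    rw [mem_gen_cj]
    exact h.H_conj_gen' hs _ (inv_mem hu)
  have huA : u ∈ AA σ x := gen_le_AA _ hu
  obtain ⟨-, hττ, hb, v, hv, hvf⟩ := pure_of_sq h' hu' hP' (fun a => field_comm τ σ a)
    (by rw [inv_mul_cancel_left, hff]) (by
      by_contra hne
      push Not at hne
      apply hin
      refine ⟨u⁻¹, inv_mem huA, ?_⟩
      rw [inv_inv, mem_centralizer_iff]
      have h5 : AA σ (cj s x) ≤ centralizer ({u * f} : Set G) := gen_le fun k _ a ha => by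
        rw [mem_centralizer_singleton_iff]
        have h6 := hP' k a ha
        rw [hne a] at h6
        exact (mul_inv_eq_iff_eq_mul.mp h6).symm
      intro w hw
      rw [← hAA] at hw
      exact mem_centralizer_singleton_iff.mp (h5 hw))
  rw [inv_mul_cancel_left] at hvf
  have hvA : v ∈ AA σ x := by
    rw [← hAA]
    exact gen_le_AA _ hv
  refine ⟨cj (v⁻¹ * s) x, τ, h.conj _, AA_cj fun w hw =>
    mul_mem (mul_mem (mul_mem (inv_mem hvA) hsA) hw) (inv_mem (mul_mem (inv_mem hvA) hsA)), ?_, hττ, hb, _,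
    mul_mem (inv_mem hvA) hsA, rfl⟩
  intro k a ha
  have h6 := hP' k a ha
  rw [← hvf] at h6
  unfold cj at h6 ⊢
  have e1 : f * (v⁻¹ * s * x k a * (v⁻¹ * s)⁻¹) * f⁻¹ = v⁻¹ * (v * f * v⁻¹ * (s * x k a * s⁻¹) * (v * f * v⁻¹)⁻¹) * v := by
    group
  rw [e1, h6]
  group

/-- **The facts on outer involutions**. -/
theorem outW_of [Finite E] [Finite G] (h : HexTwo σ x) (hN : NotTwo σ) {T : Subgroup G} (hT : IsPGroup 2 T)
    (hTn : T ≤ normalizer (AA σ x : Set G)) (hTA : T ⊓ AA σ x = UU σ x) (t : G) : OutW (AA σ x) t T := by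
  intro f hf hff hin _
  obtain ⟨y, τ, hy, hAA, hP, hττ, ⟨b, hσb, hb⟩, -⟩ := exists_frame h hN hT hTn hTA hf hff hin
  set S : Set G := {g | ∃ k a, k.val % 2 = 0 ∧ σ a = a ∧ τ a = a ∧ g = y k a} with hS
  have hmem : ∀ k : ZMod 12, k.val % 2 = 0 → ∀ a, σ a = a → τ a = a → y k a ∈ closure S := fun k hk a ha ha' =>
    subset_closure ⟨k, a, hk, ha, ha', rfl⟩
  have hok : ∀ (k : ZMod 12) a, σ a = a → Ok σ k a := fun k a ha _ => ha
  have h1 : ∀ k : ZMod 12, k.val % 2 = 0 → y k 1 ∈ closure S := fun k hk => hmem k hk 1 (map_one σ) (map_one τ)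
  have hB2 : P2 (closure S) := by
    constructor
    · apply le_antisymm
      · rw [commutator_le]
        intro v hv w hw
        rw [commutatorElement_def]
        exact mul_mem (mul_mem (mul_mem hv hw) (inv_mem hv)) (inv_mem hw)
      · rw [closure_le]
        rintro _ ⟨k, a, hk, ha, ha', rfl⟩
        have hk2 : (k - 2).val % 2 = 0 := by
          rw [sub_eq_add_neg]
          exact val_even_add k (-2) hk (by decide)
        have h2 := hy.commL4 (k := k - 2) hk2 ha (map_one σ)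
        rw [mul_one, sub_add_cancel] at h2
        rw [← h2]
        refine commutator_mem_commutator (hmem _ hk2 a ha ha') (h1 _ (val_even_add _ 4 hk2 (by decide)))
    · rw [closure_le]
      rintro g ⟨k, a, hk, ha, ha', rfl⟩
      exact subset_closure ⟨hmem k hk a ha ha', 1, by rw [pow_one, pow_two, hy.x_sq (hok k a ha)]⟩
  have hBA : closure S ≤ AA σ x := by
    rw [← hAA, closure_le]
    rintro _ ⟨k, a, hk, ha, ha', rfl⟩
    exact x_mem_AA (hok k a ha)
  have hBf : ∀ v ∈ closure S, v * f = f * v := by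
    have h2 : closure S ≤ centralizer ({f} : Set G) := by
      rw [closure_le]
      rintro _ ⟨k, a, hk, ha, ha', rfl⟩
      have h3 := hP k a (hok k a ha)
      rw [ha'] at h3
      exact mem_centralizer_singleton_iff.mpr (mul_inv_eq_iff_eq_mul.mp h3).symm
    intro v hv
    exact mem_centralizer_singleton_iff.mp (h2 hv)
  refine ⟨closure S, hB2, hBA, hBf, ⟨y 4 1, h1 4 (by decide), hy.x_sq (ok_one σ 4), ?_, y 4 b, ?_⟩,
    closure {y 2 1, y 6 1}, ?_, ?_, y 2 1, subset_closure (Set.mem_insert _ _), y 6 1,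
    subset_closure (Set.mem_insert_of_mem _ (Set.mem_singleton _)), ?_⟩
  · intro h0
    exact one_ne_zero (hy.inj 4 1 (ok_one σ 4) h0)
  · have hob : Ok σ 4 b := hok 4 b hσb
    have hoτ : Ok σ 4 (τ b) := ok_map (fun a => field_comm τ σ a) hob
    have h3 := hP 4 b hob
    have hfi : f⁻¹ = f := inv_eq_of_mul_eq_one_left hff
    have e1 : y 4 b * f * (y 4 b)⁻¹ = f * ((f⁻¹ * y 4 b * f) * (y 4 b)⁻¹) := by group
    have e2 : f⁻¹ * y 4 b * f = y 4 (τ b) := by
      rw [hfi]
      rw [hfi] at h3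
      exact h3
    rw [e1, e2, hy.x_inv hob, ← hy.add 4 _ _ hoτ hob, add_comm, hb]
  · rw [closure_le]
    rintro v (rfl | hv)
    · exact h1 2 (by decide)
    · rw [Set.mem_singleton_iff] at hv
      subst hv
      exact h1 6 (by decide)
  · refine hy.isPGroup_U.to_le ?_
    rw [closure_le]
    rintro v (rfl | hv)
    · exact x_mem_gen (by rw [mem_arc]; decide) (ok_one σ 2)
    · rw [Set.mem_singleton_iff] at hv
      subst hv
      exact x_mem_gen (by rw [mem_arc]; decide) (ok_one σ 6)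
  · intro N _ hN2 hNn
    rw [comm_x2_x6 hy]
    exact not_mem_normal hy hN2 fun k hk n hn => hNn _ (h1 k hk) n hn

/-- **`OutW`** -/
theorem outW [Finite E] [Finite G] (h : HexTwo σ x) {ω : E} (hω : σ ω = ω) (h0 : ω ≠ 0) (h1 : ω ≠ 1) {t : G}
    {T : Subgroup G} (hT : IsT (AA σ x) t T) (hTA : T ⊓ AA σ x = UU σ x) : OutW (AA σ x) t T :=
  outW_of h (Or.inl ⟨ω, hω, fun e => h1 (by
    rw [pow_two] at e
    have : ω * ω = ω * 1 := by rw [e, mul_one]
    exact mul_left_cancel₀ h0 this)⟩) hT.syl.two hT.norm hTA t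

end

end Cfsg.Agent.HexStart
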