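import Cfsg.Agent.HexStart.Inst
import Cfsg.Agent.HexStart.HexOutW
import Cfsg.Agent.HexOut.IAdapt
import Cfsg.Agent.StdRank2.HexAdapt
import Cfsg.Agent.TriTwo.Bridge

/-!
# S1778, types `G2(q)`, `3D4(q)`, `q ≥ 4`: adapted coordinates, the Sylow subgroup `T` and the mover
-/

set_option autoImplicit false
set_option linter.unusedSectionVars false

namespace Cfsg.Agent.HexStart

open Cfsg Subgroup Cfsg.Agent.SplitTwo Cfsg.Agent.StdRank2.Hex Cfsg.Agent.StdRank2.Hex.HexTwo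
open Cfsg.Agent.StdEven.Syl Cfsg.Agent.StdEven.Loc Cfsg.Agent.StdL2.Setup
open Cfsg.Agent.StdEven.CoreQuot

section

variable {E : Type*} [Field E] {σ : E ≃+* E} {G : Type*} [Group G] {x : ZMod 12 → E → G}

/-- **Adapted coordinates and `T`.** -/
theorem exists_adapted [Finite E] [Finite G] {L : Subgroup G} {t : G} (h : HexTwo σ x) (C : Conf L (AA σ x) t)
    {ω : E} (hω : σ ω = ω) (h0 : ω ≠ 0) (h1 : ω ≠ 1) :
    ∃ (y : ZMod 12 → E → G) (T : Subgroup G), HexTwo σ y ∧ AA σ y = AA σ x ∧ IsT (AA σ y) t T ∧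
      T ⊓ AA σ y = UU σ y ∧
      ∀ f ∈ T, ∃ u ∈ UU σ y, ∃ τ : E ≃+* E, (∃ k, τ ^ 2 ^ k = 1) ∧ Fld σ y (u * f) τ := by
  obtain ⟨T, hT, hTA⟩ := TriTwo.Bridge.exists_T C (HexToX.isSyl_U h)
  obtain ⟨s, hs, -, h', hS, hsT⟩ := HexOut.exists_adapted h hω h0 h1 hT.syl.two hT.norm hTA
  have e1 := hS Set.univ
  have e2 := hS (arc 1 6)
  refine ⟨_, T, h', e1, by rw [AA, e1]; exact hT, by rw [AA, UU, e1, e2]; exact hTA, fun f hf => ?_⟩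
  obtain ⟨u, hu, τ, hk, hp⟩ := hsT f hf
  exact ⟨u, by rw [UU, e2]; exact hu, τ, hk, hp⟩

/-- **The start for `G2(q)`, `3D4(q)`, `q ≥ 4`, outer 2-elements included**: adapted coordinates `y`, `T`, and a mover. -/
theorem exists_start [Finite E] [Finite G] {L : Subgroup G} {t : G} (h : HexTwo σ x) (C : Conf L (AA σ x) t)
    {ω : E} (hω : σ ω = ω) (h0 : ω ≠ 0) (h1 : ω ≠ 1) :
    ∃ (y : ZMod 12 → E → G) (T : Subgroup G), HexTwo σ y ∧ AA σ y = AA σ x ∧ Conf L (AA σ y) t ∧ Hyp (AA σ y) t T ∧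
      T ⊓ AA σ y = UU σ y ∧
      (∀ f ∈ T, ∃ u ∈ UU σ y, ∃ τ : E ≃+* E, (∃ k, τ ^ 2 ^ k = 1) ∧ Fld σ y (u * f) τ) ∧ ¬ IsSyl T ⊤ ∧
      ∃ g ∈ normalizer (T : Set G), (∃ k : ℕ, g ^ 2 ^ k = 1) ∧ g ∈ normalizer (gen σ y (arc 1 7) : Set G) ∧
        ∃ z ∈ gen σ y {4}, z ≠ 1 ∧ (∀ v ∈ T, v * z = z * v) ∧ g * t * g⁻¹ = t * z ∧ g * z * g⁻¹ = z := by
  obtain ⟨y, T, hy, hA, hT, hTA, hTp⟩ := exists_adapted h C hω h0 h1
  have C' : Conf L (AA σ y) t := by rw [hA]; exact C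
  obtain ⟨h2, h3, h4⟩ := start_hex hy C' hω h0 h1 hT hTA (outW hy hω h0 h1 hT hTA)
  exact ⟨y, T, hy, hA, C', h3, hTA, hTp, h2, h4⟩

end

end Cfsg.Agent.HexStart
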