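import Cfsg.Agent.HexStart.HexLong

/-!
# The centraliser of the short root element `x 3 1`
-/

set_option autoImplicit false
set_option linter.unusedSectionVars false
set_option linter.unusedSimpArgs false

namespace Cfsg.Agent.HexStart

open Cfsg.Agent.SplitTwo Cfsg.Agent.StdRank2.Hex Cfsg.Agent.StdRank2.Hex.HexTwo
open scoped commutatorElement

section

variable {E : Type*} [Field E] {σ : E ≃+* E} {G : Type*} [Group G] {x : ZMod 12 → E → G} (h : HexTwo σ x)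
include h

/-- `W = X 2 X 4` -/
theorem mem_W {g : G} : g ∈ gen σ x {2, 4} ↔ ∃ b d, σ b = b ∧ σ d = d ∧ g = x 2 b * x 4 d := by
  constructor
  · intro hg
    let P : Subgroup G :=
      { carrier := {g | ∃ b d, σ b = b ∧ σ d = d ∧ g = x 2 b * x 4 d}
        mul_mem' := by
          rintro _ _ ⟨b, d, hb, hd, rfl⟩ ⟨b', d', hb', hd', rfl⟩
          refine ⟨b + b', d + d', by rw [map_add, hb, hb'], by rw [map_add, hd, hd'], ?_⟩
          rw [h.add 2 b b' (ok_of_fix _ hb) (ok_of_fix _ hb'), h.add 4 d d' (ok_of_fix _ hd) (ok_of_fix _ hd')]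
          have e := h.s24 hb' hd
          calc x 2 b * x 4 d * (x 2 b' * x 4 d') = x 2 b * (x 4 d * x 2 b') * x 4 d' := by group
            _ = x 2 b * (x 2 b' * x 4 d) * x 4 d' := by rw [e]
            _ = _ := by group
        one_mem' := ⟨0, 0, map_zero σ, map_zero σ, by rw [h.x_zero, h.x_zero, one_mul]⟩
        inv_mem' := by
          rintro _ ⟨b, d, hb, hd, rfl⟩
          refine ⟨b, d, hb, hd, ?_⟩
          rw [mul_inv_rev, h.x_inv (ok_of_fix 2 hb), h.x_inv (ok_of_fix 4 hd), h.s24 hb hd] }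
    have : gen σ x {2, 4} ≤ P := gen_le (by
      rintro l (rfl | hl) a ha
      · exact ⟨a, 0, ha (by decide), map_zero σ, by rw [h.x_zero, mul_one]⟩
      · rw [Set.mem_singleton_iff] at hl
        subst hl
        exact ⟨0, a, map_zero σ, ha (by decide), by rw [h.x_zero, one_mul]⟩)
    exact this hg
  · rintro ⟨b, d, hb, hd, rfl⟩
    exact mul_mem (x_mem_gen (Set.mem_insert _ _) (ok_of_fix 2 hb))
      (x_mem_gen (Set.mem_insert_of_mem _ (Set.mem_singleton _)) (ok_of_fix 4 hd))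

/-- conjugates of `x 3 c` under `U` -/
theorem conj_x3 {u : G} (hu : u ∈ UU σ x) (t : E) : ∃ b d, σ b = b ∧ σ d = d ∧ u * x 3 t * u⁻¹ = x 2 b * x 3 t * x 4 d := by
  obtain ⟨a, b, c, d, e, f, hb, hd, hf, rfl⟩ := h.mem_UU.1 hu
  have z : σ (0 : E) = 0 := map_zero σ
  refine ⟨trc σ a t, trc σ t e, h.fix_trc _ _, h.fix_trc _ _, ?_⟩
  have t1 := h.fix_trc a t
  have t2 := h.fix_trc t e
  rw [mul_inv_eq_iff_eq_mul]
  have e1 : x 2 (trc σ a t) * x 3 t * x 4 (trc σ t e) = uu x 0 (trc σ a t) t (trc σ t e) 0 0 := by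
    rw [h.uq]; unfold q
    rw [h.x_zero, h.x_zero, mul_one, mul_one]
  have t3 := h.fix_trc t (e + f * a)
  rw [e1, ← h.q3, ← h.uq, h.uu_mul hb hd hf z z z, h.uu_mul t1 t2 z hb hd hf]
  simp only [trc_zero_left, trc_zero_right, crs_zero_left, crs_zero_right, shp_zero, nrm_zero, zero_add, add_zero,
    mul_zero, zero_mul, one_mul, mul_one, one_pow]
  congr 1
  · rw [h.add_self, zero_add]
  · rw [add_comm]
  · rw [zero_pow (by norm_num), zero_mul, add_zero, add_comm]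

/-- conjugates of `x 2 t` under `U` -/
theorem conj_x2 {a b c d e f : E} (hb : σ b = b) (hd : σ d = d) (hf : σ f = f) {t : E} (ht : σ t = t) :
    uu x a b c d e f * x 2 t * (uu x a b c d e f)⁻¹ = x 2 t * x 4 (f * t) := by
  have z : σ (0 : E) = 0 := map_zero σ
  rw [mul_inv_eq_iff_eq_mul]
  have hft : σ (f * t) = f * t := by rw [map_mul, hf, ht]
  have e1 : x 2 t * x 4 (f * t) = uu x 0 t 0 (f * t) 0 0 := by
    rw [h.uq]; unfold q
    rw [h.x_zero, h.x_zero, h.x_zero, mul_one, mul_one, mul_one]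
  rw [e1, ← h.q2, ← h.uq, h.uu_mul hb hd hf ht z z, h.uu_mul ht hft z hb hd hf]
  simp only [trc_zero_left, trc_zero_right, crs_zero_left, crs_zero_right, shp_zero, nrm_zero, zero_add, add_zero,
    mul_zero, zero_mul, one_mul, mul_one, one_pow]
  congr 1
  · rw [add_comm]
  · ring

/-- `U` normalises `W`. -/
theorem U_W {u : G} (hu : u ∈ UU σ x) {w : G} (hw : w ∈ gen σ x {2, 4}) : u * w * u⁻¹ ∈ gen σ x {2, 4} := by
  obtain ⟨a, b, c, d, e, f, hb, hd, hf, rfl⟩ := h.mem_UU.1 hu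
  obtain ⟨s, t, hs, ht, rfl⟩ := (mem_W h).1 hw
  have e1 : uu x a b c d e f * x 4 t * (uu x a b c d e f)⁻¹ = x 4 t := by
    have := X4_comm h (x_mem_gen (Set.mem_singleton 4) (ok_of_fix 4 ht)) (gen_mono (arc_mono (by norm_num))
      (uu_mem (x := x) (a := a) (c := c) (e := e) hb hd hf))
    rw [this]; group
  have e2 : uu x a b c d e f * (x 2 s * x 4 t) * (uu x a b c d e f)⁻¹ =
      (uu x a b c d e f * x 2 s * (uu x a b c d e f)⁻¹) * (uu x a b c d e f * x 4 t * (uu x a b c d e f)⁻¹) := by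
    group
  rw [e2, e1, conj_x2 h hb hd hf hs]
  refine (mem_W h).2 ⟨s, f * s + t, hs, by rw [map_add, map_mul, hf, hs, ht], ?_⟩
  rw [h.add 4 _ _ (ok_of_fix 4 (by rw [map_mul, hf, hs])) (ok_of_fix 4 ht)]
  group

omit h in
/-- Involutions mapping a subgroup into itself generate a group normalising it. -/
theorem norm_of_invol {S : Set G} {Q : Subgroup G} (h1 : ∀ s ∈ S, s * s = 1)
    (h2 : ∀ s ∈ S, ∀ w ∈ Q, s * w * s⁻¹ ∈ Q) {u : G} (hu : u ∈ Subgroup.closure S) {w : G} (hw : w ∈ Q) :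
    u * w * u⁻¹ ∈ Q := by
  have h3 : Subgroup.closure S ≤ Subgroup.normalizer (Q : Set G) := by
    rw [Subgroup.closure_le]
    intro s hs
    rw [SetLike.mem_coe, Subgroup.mem_normalizer_iff]
    intro w
    refine ⟨h2 s hs w, fun hw => ?_⟩
    have h4 := h2 s hs _ hw
    have h5 : s⁻¹ = s := inv_eq_of_mul_eq_one_left (h1 s hs)
    have h6 : s * (s * w * s⁻¹) * s⁻¹ = w := by
      rw [h5]
      calc s * (s * w * s) * s = (s * s) * w * (s * s) := by group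
        _ = w := by rw [h1 s hs, one_mul, mul_one]
    rwa [h6] at h4
  exact (Subgroup.mem_normalizer_iff.mp (h3 hu) w).mp hw

/-- `U` normalises `Q2`. -/
theorem U_Q2 {u : G} (hu : u ∈ UU σ x) {w : G} (hw : w ∈ gen σ x (arc 1 5)) : u * w * u⁻¹ ∈ gen σ x (arc 1 5) := by
  refine norm_of_invol ?_ ?_ hu hw
  · rintro _ ⟨k, hk, a, ha, rfl⟩
    exact h.x_sq ha
  · rintro _ ⟨k, hk, a, ha, rfl⟩ w hw
    rcases mem_arc_last (n := 5) hk with hk | hk
    · have := x_mem_gen (x := x) hk ha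
      exact mul_mem (mul_mem this hw) (inv_mem this)
    · subst hk
      exact h.conj_last (by norm_num) ha hw

/-- The Bruhat form of the elements centralising `x 3 1`. -/
theorem cent_form [Finite E] {c : G} (hc : c ∈ AA σ x) (hc3 : c * x 3 1 * c⁻¹ = x 3 1) :
    ∃ u ∈ UU σ x, ∃ s ∈ h.H, ∃ u' ∈ UU σ x, c = u * s * u' ∨ c = u * s * nn x 6 * u' := by
  obtain ⟨u, hu, s, hs, w, hw, u', hu', rfl⟩ := h.bruhat hc
  refine ⟨u, hu, s, hs, u', hu', ?_⟩
  obtain ⟨B, D, hB, hD, e1⟩ := conj_x3 h hu' 1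
  obtain ⟨B', D', hB', hD', e2⟩ := conj_x3 h (inv_mem hu) 1
  -- the image under the torus
  obtain ⟨m2, hm2, hm2', a2⟩ := h.H_diag (inv_mem hs) 2
  obtain ⟨m3, hm3, hm3', a3⟩ := h.H_diag (inv_mem hs) 3
  obtain ⟨m4, hm4, hm4', a4⟩ := h.H_diag (inv_mem hs) 4
  have e3 : w * (x 2 B * x 3 1 * x 4 D) * w⁻¹ = x 2 (m2 * B') * x 3 (m3 * 1) * x 4 (m4 * D') := by
    rw [← a2 _ (ok_of_fix 2 hB'), ← a3 _ (ok3 1), ← a4 _ (ok_of_fix 4 hD')]
    calc w * (x 2 B * x 3 1 * x 4 D) * w⁻¹ = w * (u' * x 3 1 * u'⁻¹) * w⁻¹ := by rw [e1]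
      _ = s⁻¹ * (u⁻¹ * (u * s * w * u' * x 3 1 * (u * s * w * u')⁻¹) * u⁻¹⁻¹) * s := by group
      _ = s⁻¹ * (u⁻¹ * x 3 1 * u⁻¹⁻¹) * s := by rw [hc3]
      _ = s⁻¹ * (x 2 B' * x 3 1 * x 4 D') * s := by rw [e2]
      _ = _ := by group
  have hBf : σ (m2 * B') = m2 * B' := by rw [map_mul, hm2' (by decide), hB']
  have hDf : σ (m4 * D') = m4 * D' := by rw [map_mul, hm4' (by decide), hD']
  rw [mul_one] at e3
  generalize m2 * B' = B1 at e3 hBf
  generalize m4 * D' = D1 at e3 hDf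
  obtain ⟨ε, δ, hε, hδ, hact⟩ := h.isW_act hw
  have e4 : w * (x 2 B * x 3 1 * x 4 D) * w⁻¹ = x (ε * 2 + δ) B * x (ε * 3 + δ) 1 * x (ε * 4 + δ) D := by
    rw [← hact 2 B (ok_of_fix 2 hB), ← hact 3 1 (ok3 1), ← hact 4 D (ok_of_fix 4 hD)]
    group
  rw [e4] at e3
  -- membership in arcs
  have hg1 : x 2 B1 * x 3 m3 * x 4 D1 ∈ gen σ x (arc 2 3) :=
    mul_mem (mul_mem (x_mem_gen (by rw [mem_arc]; decide) (ok_of_fix 2 hBf)) (x_mem_gen (by rw [mem_arc]; decide) (ok3 _)))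
      (x_mem_gen (by rw [mem_arc]; decide) (ok_of_fix 4 hDf))
  have hne : x 2 B1 * x 3 m3 * x 4 D1 ≠ 1 := by
    intro h0
    have h1 : q x B1 m3 D1 0 0 = q x 0 0 0 0 0 := by
      rw [h.q_zero]; unfold q
      rw [h.x_zero, h.x_zero, mul_one, mul_one]
      exact h0
    exact hm3 (h.q_inj hBf hDf (map_zero σ) (map_zero σ) (map_zero σ) (map_zero σ) h1).2.1
  have hcase : ∀ ε δ : ZMod 12, (ε = 1 ∨ ε = -1) → δ.val % 2 = 0 →
      ε * 3 + δ = 3 ∨ (ε * 3 + δ = 1 ∧ ((ε * 2 + δ = 0 ∧ ε * 4 + δ = 2) ∨ (ε * 2 + δ = 2 ∧ ε * 4 + δ = 0))) ∨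
      (ε * 3 + δ = 5 ∧ ((ε * 2 + δ = 4 ∧ ε * 4 + δ = 6) ∨ (ε * 2 + δ = 6 ∧ ε * 4 + δ = 4))) ∨
      ((ε * 2 + δ - 6).val < 6 ∧ (ε * 3 + δ - 6).val < 6 ∧ (ε * 4 + δ - 6).val < 6) ∨
      ((ε * 2 + δ - 7).val < 6 ∧ (ε * 3 + δ - 7).val < 6 ∧ (ε * 4 + δ - 7).val < 6) := by decide +kernel
  have hoff : ∀ ε δ : ZMod 12, (ε = 1 ∨ ε = -1) → δ.val % 2 = 0 → ∀ j : ZMod 12, (ε * j + δ).val % 2 = j.val % 2 := by
    decide +kernel
  have hokB : Ok σ (ε * 2 + δ) B := ok_of_fix _ hB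
  have hokD : Ok σ (ε * 4 + δ) D := ok_of_fix _ hD
  have hok1 : Ok σ (ε * 3 + δ) (1 : E) := ok_one σ _
  have h0 : ∀ b : E, σ b = b → x 0 b ∈ gen σ x (arc 1 6) → x 0 b = 1 := fun b hb hm =>
    h.opp_all 1 hm (x_mem_gen (by rw [mem_arc]; decide) (ok_of_fix 0 hb))
  have hg2 : x 2 B1 * x 3 m3 * x 4 D1 ∈ gen σ x (arc 1 6) := gen_mono (by
    intro l hl
    rw [mem_arc] at hl ⊢
    revert hl; revert l; decide) hg1
  have hq : x 2 B1 * x 3 m3 * x 4 D1 = uu x 0 B1 m3 D1 0 0 := by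
    rw [h.uq]; unfold q
    rw [h.x_zero, h.x_zero, mul_one, mul_one]
  have z : σ (0 : E) = 0 := map_zero σ
  have o : σ (1 : E) = 1 := map_one σ
  have h3 : ε * 3 + δ = 3 := by
    rcases hcase ε δ hε hδ with hk | ⟨hk, hk' | hk'⟩ | ⟨hk, hk' | hk'⟩ | ⟨k2, k3, k4⟩ | ⟨k2, k3, k4⟩
    · exact hk
    · exfalso
      rw [hk, hk'.1, hk'.2] at e3
      have h1 : x 0 B = x 2 B1 * x 3 m3 * x 4 D1 * (x 1 1 * x 2 D)⁻¹ := by rw [← e3]; group
      have h2 : x 0 B = 1 := h0 B hB (by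
        rw [h1]
        exact mul_mem hg2 (inv_mem (mul_mem (x_mem_gen (by rw [mem_arc]; decide) (ok1 1))
          (x_mem_gen (by rw [mem_arc]; decide) (ok_of_fix 2 hD)))))
      rw [h2, one_mul, hq] at e3
      have h4 : x 1 1 * x 2 D = uu x 1 D 0 0 0 0 := by
        unfold uu
        rw [h.q2]
      rw [h4] at e3
      exact one_ne_zero (h.uu_inj hD z z hBf hDf z e3).1
    · exfalso
      rw [hk, hk'.1, hk'.2] at e3
      have h1 : x 0 D = (x 2 B * x 1 1)⁻¹ * (x 2 B1 * x 3 m3 * x 4 D1) := by rw [← e3]; group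
      have h2 : x 0 D = 1 := h0 D hD (by
        rw [h1]
        exact mul_mem (inv_mem (mul_mem (x_mem_gen (by rw [mem_arc]; decide) (ok_of_fix 2 hB))
          (x_mem_gen (by rw [mem_arc]; decide) (ok1 1)))) hg2)
      rw [h2, mul_one, hq] at e3
      have h4 : x 2 B * x 1 1 = uu x 1 B 0 0 0 0 := by
        unfold uu
        rw [h.q2, h.s12 1 hB]
      rw [h4] at e3
      exact one_ne_zero (h.uu_inj hB z z hBf hDf z e3).1
    · exfalso
      rw [hk, hk'.1, hk'.2, hq] at e3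
      have h4 : x 4 B * x 5 1 * x 6 D = uu x 0 0 0 B 1 D := by
        rw [h.uq]; unfold q
        rw [h.x_zero, h.x_zero, one_mul, one_mul]
      rw [h4] at e3
      exact one_ne_zero (h.uu_inj z hB hD hBf hDf z e3).2.2.2.2.1
    · exfalso
      rw [hk, hk'.1, hk'.2, hq] at e3
      have h4 : x 6 B * x 5 1 * x 4 D = uu x 0 0 0 D 1 B := by
        rw [h.uq]; unfold q
        rw [h.x_zero, h.x_zero, one_mul, one_mul]
        calc x 6 B * x 5 1 * x 4 D = x 6 B * (x 5 1 * x 4 D) := by group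
          _ = x 6 B * (x 4 D * x 5 1) := by rw [h.s45 hD]
          _ = (x 6 B * x 4 D) * x 5 1 := by group
          _ = x 4 D * (x 6 B * x 5 1) := by rw [← h.s46 hD hB]; group
          _ = x 4 D * x 5 1 * x 6 B := by rw [← h.s56 1 hB]; group
      rw [h4] at e3
      exact one_ne_zero (h.uu_inj z hD hB hBf hDf z e3).2.2.2.2.1
    · exfalso
      apply hne
      refine h.opp_all 0 (gen_mono (by
        intro l hl
        rw [mem_arc] at hl ⊢
        revert hl; revert l; decide) hg1) ?_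
      rw [← e3]
      exact mul_mem (mul_mem (x_mem_gen (by rw [mem_arc]; simpa using k2) hokB)
        (x_mem_gen (by rw [mem_arc]; simpa using k3) hok1)) (x_mem_gen (by rw [mem_arc]; simpa using k4) hokD)
    · exfalso
      apply hne
      refine h.opp_all 1 hg2 ?_
      rw [← e3]
      have h17 : (1 : ZMod 12) + 6 = 7 := by decide
      rw [h17]
      exact mul_mem (mul_mem (x_mem_gen (by rw [mem_arc]; exact k2) hokB)
        (x_mem_gen (by rw [mem_arc]; exact k3) hok1)) (x_mem_gen (by rw [mem_arc]; exact k4) hokD)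
  rcases weyl_fix3 ε δ hε hδ h3 with hf | hf
  · left
    have : w = 1 := (h.isW_faithful hw (f := fun j => ε * j + δ) hact).1 (by funext j; exact hf j)
    rw [this, mul_one]
  · right
    have : w = nn x 6 := (h.isW_faithful hw (f := fun j => ε * j + δ) hact).2 6 (by funext j; exact hf j)
    rw [this]

end

end Cfsg.Agent.HexStart
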