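import Cfsg.Agent.HexStart.HexShortF

/-!
# Centralisers of involutions of `A`: a normal 2-subgroup containing the commutators of all 2-subgroups
-/

set_option autoImplicit false
set_option linter.unusedSectionVars false
set_option linter.unusedSimpArgs false

namespace Cfsg.Agent.HexStart

open Cfsg.Agent.SplitTwo Cfsg.Agent.StdRank2.Hex Cfsg.Agent.StdRank2.Hex.HexTwo
open Cfsg.Agent.StdEven.Syl
open scoped commutatorElement

section

variable {E : Type*} [Field E] {σ : E ≃+* E} {G : Type*} [Group G] {x : ZMod 12 → E → G} (h : HexTwo σ x)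
include h

/-- `P1` normalises `Q1`. -/
theorem P1_Q1 {p : G} (hp : p ∈ gen σ x (arc 1 7)) {y : G} (hy : y ∈ gen σ x (arc 2 5)) :
    p * y * p⁻¹ ∈ gen σ x (arc 2 5) := by
  obtain ⟨q', hq, l, hl, rfl⟩ := (h.mem_P 1).1 hp
  rw [show (1 : ZMod 12) + 1 = 2 by decide] at hq
  have h1 := h.L_conj 1 hl (q := y) (by rw [show (1 : ZMod 12) + 1 = 2 by decide]; exact hy)
  rw [show (1 : ZMod 12) + 1 = 2 by decide] at h1
  have e : q' * l * y * (q' * l)⁻¹ = q' * (l * y * l⁻¹) * q'⁻¹ := by group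
  rw [e]
  exact mul_mem (mul_mem hq h1) (inv_mem hq)

/-- commutators of elements of `U` lie in `Q1`. -/
theorem comm_U_Q1 {u u' : G} (hu : u ∈ UU σ x) (hu' : u' ∈ UU σ x) : ⁅u, u'⁆ ∈ gen σ x (arc 2 5) := by
  have h57 : gen σ x (arc 2 5) ≤ gen σ x (arc 1 7) := gen_mono (by
    intro l hl
    rw [mem_arc] at hl ⊢
    revert hl; revert l; decide)
  obtain ⟨a, ha, v, hv, rfl⟩ := (h.mem_gen_first (k := 1) (n := 5) le_rfl).1 hu
  obtain ⟨a', ha', v', hv', rfl⟩ := (h.mem_gen_first (k := 1) (n := 5) le_rfl).1 hu'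
  rw [show (1 : ZMod 12) + 1 = 2 by decide] at hv hv'
  have m1 : x 1 a ∈ gen σ x (arc 1 7) := x_mem_P1 (by decide) ha
  have m1' : x 1 a' ∈ gen σ x (arc 1 7) := x_mem_P1 (by decide) ha'
  set y := x 1 a with hy
  set y' := x 1 a' with hy'
  have hyy : y * y' = y' * y := (h.x_comm_same ha ha').eq
  have e : ⁅y * v, y' * v'⁆ = (y * y') * (y'⁻¹ * v * y' * v' * (y⁻¹ * v' * y * v)⁻¹) * (y * y')⁻¹ := by
    have e2 : (y * y')⁻¹ = (y' * y)⁻¹ := by rw [hyy]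
    rw [commutatorElement_def, e2]
    group
  rw [e]
  have n1 : y'⁻¹ * v * y' ∈ gen σ x (arc 2 5) := by
    have := P1_Q1 h (inv_mem m1') hv
    rwa [inv_inv] at this
  have n2 : y⁻¹ * v' * y ∈ gen σ x (arc 2 5) := by
    have := P1_Q1 h (inv_mem m1) hv'
    rwa [inv_inv] at this
  exact P1_Q1 h (mul_mem m1 m1') (mul_mem (mul_mem n1 hv') (inv_mem (mul_mem n2 hv)))

/-- commutators of 2-subgroups of `P1` lie in `Q1`. -/
theorem comm_P1 [Finite E] [Finite G] {P : Subgroup G} (hP : IsPGroup 2 P) (hP1 : P ≤ gen σ x (arc 1 7)) {p r : G}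
    (hp : p ∈ P) (hr : r ∈ P) : ⁅p, r⁆ ∈ gen σ x (arc 2 5) := by
  obtain ⟨g, hg, hgP⟩ := h.sylow_conj (S := gen σ x (arc 1 7)) (gen_mono (arc_mono (by norm_num))) (gen_le_AA _) hP hP1
  have h1 := comm_U_Q1 h (hgP p hp) (hgP r hr)
  have h2 := P1_Q1 h (inv_mem hg) h1
  have e : g⁻¹ * ⁅g * p * g⁻¹, g * r * g⁻¹⁆ * g⁻¹⁻¹ = ⁅p, r⁆ := by
    simp only [commutatorElement_def]; group
  rwa [e] at h2

/-- **In the centraliser of an involution of `A`, the commutators of all 2-subgroups lie in one normal 2-subgroup.** -/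
theorem comm_normal [Finite E] [Finite G] {s : E} (hs : s ≠ 0) (hs1 : s ≠ 1) (hsf : σ s = s) {a : G} (ha : a ∈ AA σ x)
    (ha2 : a * a = 1) (ha1 : a ≠ 1) : ∃ N : Subgroup G, IsPGroup 2 N ∧ N ≤ AA σ x ∧
      (∀ c ∈ AA σ x, c * a = a * c → ∀ y ∈ N, c * y * c⁻¹ ∈ N) ∧
      ∀ P : Subgroup G, IsPGroup 2 P → P ≤ AA σ x → (∀ p ∈ P, p * a = a * p) → ∀ p ∈ P, ∀ r ∈ P, ⁅p, r⁆ ∈ N := by
  -- the representatives
  have key : ∀ b : G, (b ∈ gen σ x {4} ∧ b ≠ 1) ∨ b = x 3 1 → ∃ N : Subgroup G, IsPGroup 2 N ∧ N ≤ AA σ x ∧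
      (∀ c ∈ AA σ x, c * b = b * c → ∀ y ∈ N, c * y * c⁻¹ ∈ N) ∧
      ∀ P : Subgroup G, IsPGroup 2 P → P ≤ AA σ x → (∀ p ∈ P, p * b = b * p) → ∀ p ∈ P, ∀ r ∈ P, ⁅p, r⁆ ∈ N := by
    rintro b (⟨hb, hb1⟩ | rfl)
    · obtain ⟨t, ht, rfl⟩ := h.mem_gen_singleton.1 hb
      have htf : σ t = t := ht (by decide)
      have ht0 : t ≠ 0 := by
        rintro rfl
        exact hb1 (h.x_zero 4)
      have hC : ∀ c ∈ AA σ x, c * x 4 t = x 4 t * c → c ∈ gen σ x (arc 1 7) := fun c hc e =>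
        (h.mem_centralizer_x4 hc htf ht0).1 (by rw [e]; group)
      refine ⟨gen σ x (arc 2 5), h.isPGroup_U.to_le (gen_mono ?_), gen_le_AA _, fun c hc e y hy =>
        P1_Q1 h (hC c hc e) hy, fun P hP hPA hPa p hp r hr => ?_⟩
      · intro l hl
        rw [mem_arc] at hl ⊢
        revert hl; revert l; decide
      · exact comm_P1 h hP (fun v hv => hC v (hPA hv) (hPa v hv)) hp hr
    · have S := shortF h hs hs1 hsf
      refine ⟨gen σ x (arc 1 5), h.isPGroup_U.to_le (gen_mono (arc_mono (by norm_num))), gen_le_AA _,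
        fun c hc e y hy => cent_Q2 h hc e hy, fun P hP hPA hPa p hp r hr => ?_⟩
      have hc1 := S.comm P hP hPA hPa p hp r hr
      refine mem_Q2_of_cent h ?_ ?_ hc1
      · rw [commutatorElement_def]
        exact mul_mem (mul_mem (mul_mem (hPA hp) (hPA hr)) (inv_mem (hPA hp))) (inv_mem (hPA hr))
      · have h1 : p ∈ Subgroup.centralizer ({x 3 1} : Set G) := Subgroup.mem_centralizer_singleton_iff.mpr (hPa p hp)
        have h2 : r ∈ Subgroup.centralizer ({x 3 1} : Set G) := Subgroup.mem_centralizer_singleton_iff.mpr (hPa r hr)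
        have h3 : ⁅p, r⁆ ∈ Subgroup.centralizer ({x 3 1} : Set G) := by
          rw [commutatorElement_def]
          exact mul_mem (mul_mem (mul_mem h1 h2) (inv_mem h1)) (inv_mem h2)
        exact Subgroup.mem_centralizer_singleton_iff.mp h3
  obtain ⟨g, hg, hgb⟩ := cls h ha ha2 ha1
  have hgb1 : g * a * g⁻¹ ≠ 1 := by
    intro h0
    apply ha1
    have : a = g⁻¹ * (g * a * g⁻¹) * g := by group
    rw [this, h0]; group
  obtain ⟨N, hN1, hN2, hN3, hN4⟩ := key (g * a * g⁻¹) (hgb.imp (fun e => ⟨e, hgb1⟩) id)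
  -- conjugate back
  refine ⟨N.map (MulAut.conj g⁻¹).toMonoidHom, hN1.map _, ?_, ?_, ?_⟩
  · rintro _ ⟨y, hy, rfl⟩
    change g⁻¹ * y * g⁻¹⁻¹ ∈ AA σ x
    exact mul_mem (mul_mem (inv_mem hg) (hN2 hy)) (inv_mem (inv_mem hg))
  · rintro c hc hca _ ⟨y, hy, rfl⟩
    refine ⟨g * c * g⁻¹ * y * (g * c * g⁻¹)⁻¹, hN3 _ (mul_mem (mul_mem hg hc) (inv_mem hg)) ?_ y hy, ?_⟩
    · calc g * c * g⁻¹ * (g * a * g⁻¹) = g * (c * a) * g⁻¹ := by group
        _ = g * (a * c) * g⁻¹ := by rw [hca]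
        _ = g * a * g⁻¹ * (g * c * g⁻¹) := by group
    · change g⁻¹ * (g * c * g⁻¹ * y * (g * c * g⁻¹)⁻¹) * g⁻¹⁻¹ = c * (g⁻¹ * y * g⁻¹⁻¹) * c⁻¹
      group
  · intro P hP hPA hPa p hp r hr
    have h1 := hN4 (P.map (MulAut.conj g).toMonoidHom) (hP.map _) (by
      rintro _ ⟨y, hy, rfl⟩
      change g * y * g⁻¹ ∈ AA σ x
      exact mul_mem (mul_mem hg (hPA hy)) (inv_mem hg)) (by
      rintro _ ⟨y, hy, rfl⟩
      change g * y * g⁻¹ * (g * a * g⁻¹) = g * a * g⁻¹ * (g * y * g⁻¹)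
      calc g * y * g⁻¹ * (g * a * g⁻¹) = g * (y * a) * g⁻¹ := by group
        _ = g * (a * y) * g⁻¹ := by rw [hPa y hy]
        _ = g * a * g⁻¹ * (g * y * g⁻¹) := by group) (g * p * g⁻¹) ⟨p, hp, rfl⟩ (g * r * g⁻¹) ⟨r, hr, rfl⟩
    refine ⟨_, h1, ?_⟩
    change g⁻¹ * ⁅g * p * g⁻¹, g * r * g⁻¹⁆ * g⁻¹⁻¹ = ⁅p, r⁆
    simp only [commutatorElement_def]; group

end

end Cfsg.Agent.HexStart
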