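import Cfsg.Agent.HexStart.Defs
import Cfsg.Agent.StdRank2.HexInv
import Cfsg.Agent.StdRank2.HexSylow
import Cfsg.Agent.StdRank2.HexRank

/-!
# The facts on long involutions used for the start, from `HexTwo`
-/

set_option autoImplicit false
set_option linter.unusedSectionVars false
set_option linter.unusedSimpArgs false

namespace Cfsg.Agent.HexStart

open Cfsg.Agent.SplitTwo Cfsg.Agent.StdRank2.Hex Cfsg.Agent.StdRank2.Hex.HexTwo
open scoped commutatorElement

section

variable {E : Type*} [Field E] {σ : E ≃+* E} {G : Type*} [Group G] {x : ZMod 12 → E → G} (h : HexTwo σ x)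
include h

theorem uu_coord {a b c d e f : E} (hb : σ b = b) (hd : σ d = d) (hf : σ f = f)
    (hg : ∀ u ∈ UU σ x, uu x a b c d e f * u = u * uu x a b c d e f) :
    a = 0 ∧ b = 0 ∧ c = 0 ∧ e = 0 ∧ f = 0 := by
  have z : σ (0 : E) = 0 := map_zero σ
  have o : σ (1 : E) = 1 := map_one σ
  have hN := h.fix_nrm a
  -- `x 6 1`
  have h6 := hg (uu x 0 0 0 0 0 1) (uu_mem z z o)
  rw [h.uu_mul hb hd hf z z o, h.uu_mul z z o hb hd hf] at h6
  simp only [trc_zero_left, trc_zero_right, crs_zero_left, crs_zero_right, shp_zero, nrm_zero, zero_add, add_zero,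
    mul_zero, zero_mul, one_mul, mul_one, one_pow] at h6
  have t1 := h.fix_trc c a
  obtain ⟨-, r1, -, r2, r3, -⟩ := h.uu_inj hb hd (by rw [map_add, hf, o]) (by rw [map_add, hN, hb])
    (by simp only [map_add, hN, hd, hb, t1]) (by rw [map_add, hf, o]) h6
  have ha : a = 0 := by
    have : e + 0 = e + a := by rw [add_zero, add_comm e a]; exact r3
    exact (add_left_cancel this).symm
  subst ha
  have hb0 : b = 0 := by
    rw [trc_zero_right, add_zero, nrm_zero, zero_add] at r2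
    have : d + 0 = d + b := by rw [add_zero]; exact r2
    exact (add_left_cancel this).symm
  subst hb0
  -- `x 5 y`
  have hc : c = 0 := by
    by_contra hc
    have h5 := hg (uu x 0 0 0 0 (1 / c) 0) (uu_mem z z z)
    rw [h.uu_mul z hd hf z z z, h.uu_mul z z z z hd hf] at h5
    simp only [trc_zero_left, trc_zero_right, crs_zero_left, crs_zero_right, shp_zero, nrm_zero, zero_add, add_zero,
      mul_zero, zero_mul, one_mul, mul_one, one_pow, h.trc_div hc o] at h5
    obtain ⟨-, -, -, r2, -, -⟩ := h.uu_inj z hd hf z (by rw [map_add, hd, o]) hf h5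
    have : d + 0 = d + 1 := by rw [add_zero]; exact r2
    exact zero_ne_one (add_left_cancel this)
  subst hc
  -- `x 3 y`
  have he : e = 0 := by
    by_contra he
    have h3 := hg (uu x 0 0 (1 / e) 0 0 0) (uu_mem z z z)
    rw [h.uu_mul z hd hf z z z, h.uu_mul z z z z hd hf] at h3
    have t : trc σ (1 / e) e = 1 := by rw [trc_comm]; exact h.trc_div he o
    simp only [trc_zero_left, trc_zero_right, crs_zero_left, crs_zero_right, shp_zero, nrm_zero, zero_add, add_zero,
      mul_zero, zero_mul, one_mul, mul_one, one_pow, t] at h3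
    obtain ⟨-, -, -, r2, -, -⟩ := h.uu_inj z (by rw [map_add, hd, o]) hf z hd hf h3
    have : d + 1 = d + 0 := by rw [add_zero]; exact r2
    exact one_ne_zero (add_left_cancel this)
  subst he
  -- `x 2 1`
  have hf0 : f = 0 := by
    have h2 := hg (uu x 0 1 0 0 0 0) (uu_mem o z z)
    rw [h.uu_mul z hd hf o z z, h.uu_mul o z z z hd hf] at h2
    simp only [trc_zero_left, trc_zero_right, crs_zero_left, crs_zero_right, shp_zero, nrm_zero, zero_add, add_zero,
      mul_zero, zero_mul, one_mul, mul_one, one_pow] at h2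
    obtain ⟨-, -, -, r2, -, -⟩ := h.uu_inj o (by rw [map_add, hd, hf]) hf o hd hf h2
    have : d + f = d + 0 := by rw [add_zero]; exact r2
    exact add_left_cancel this
  exact ⟨rfl, rfl, rfl, rfl, hf0⟩

/-- `Z(U) = X 4`. -/
theorem mem_center_U {g : G} (hg : g ∈ UU σ x) (hc : ∀ u ∈ UU σ x, g * u = u * g) : g ∈ gen σ x {4} := by
  obtain ⟨a, b, c, d, e, f, hb, hd, hf, rfl⟩ := h.mem_UU.1 hg
  obtain ⟨rfl, rfl, rfl, rfl, rfl⟩ := uu_coord h hb hd hf hc
  rw [h.uq, h.q4]
  exact x_mem_gen (Set.mem_singleton _) (ok_of_fix 4 hd)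

theorem X4_comm {z p : G} (hz : z ∈ gen σ x {4}) (hp : p ∈ gen σ x (arc 1 7)) : p * z = z * p := by
  obtain ⟨t, ht, rfl⟩ := h.mem_gen_singleton.1 hz
  have := (h.comm_gen_long (k := 4) (by decide) ht (g := p) (by
    rw [show (4 : ZMod 12) - 3 = 1 by ring]; exact hp)).eq
  exact this.symm

omit h in
theorem x_mem_P1 {k : ZMod 12} (hk : (k - 1).val < 7) {a : E} (ha : Ok σ k a) : x k a ∈ gen σ x (arc 1 7) :=
  x_mem_gen hk ha

/-- `P1 = ⟨X 1, …, X 7⟩` is perfect. -/
theorem P1_perfect [Finite E] {s : E} (hs : s ≠ 0) (hs1 : s ≠ 1) :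
    ⁅gen σ x (arc 1 7), gen σ x (arc 1 7)⁆ = gen σ x (arc 1 7) := by
  set P := gen σ x (arc 1 7) with hP
  have hx : ∀ k : ZMod 12, (k - 1).val < 7 → ∀ a, Ok σ k a → x k a ∈ P := fun k hk a ha => x_mem_P1 hk ha
  have z : σ (0 : E) = 0 := map_zero σ
  have o : σ (1 : E) = 1 := map_one σ
  have h17 : ∀ a, x 1 a ∈ ⁅P, P⁆ ∧ x 7 a ∈ ⁅P, P⁆ := by
    have h1 := h.pair_perfect (k := 1) hs (ok1 s) hs1
    have h2 : gen σ x {1, 1 + 6} ≤ ⁅P, P⁆ := by
      rw [← h1]
      have h3 : gen σ x {(1 : ZMod 12), 1 + 6} ≤ P := gen_mono (by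
        rintro l (rfl | rfl)
        · rw [mem_arc]; decide
        · rw [mem_arc]; decide)
      exact Subgroup.commutator_mono h3 h3
    exact fun a => ⟨h2 (x_mem_gen (Or.inl rfl) (ok1 a)),
      h2 (x_mem_gen (k := 7) (Or.inr rfl) (ok_odd (by decide) a))⟩
  -- the torus element `hh x 1 s`
  have hhs : hh x 1 s ∈ P := hh_mem_gen (by rw [mem_arc]; decide) (by rw [mem_arc]; decide) (ok1 s)
  have key : ∀ (j : ZMod 12) (c : E), (j - 1).val < 7 → chS σ (j - 1) s = c → c ≠ 1 → Ok σ j c → ∀ a, Ok σ j a →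
      x j a ∈ ⁅P, P⁆ := by
    intro j c hj hc hc1 hcok a ha
    have hc1' : c + 1 ≠ 0 := by
      intro h0
      apply hc1
      have := eq_neg_of_add_eq_zero_left h0
      rwa [h.neg_eq] at this
    have hok : Ok σ j (a / (c + 1)) := fun h0 => by
      rw [map_div₀, map_add, ha h0, hcok h0, o]
    have h1 : ⁅hh x 1 s, x j (a / (c + 1))⁆ = x j a := by
      rw [commutatorElement_def, h.tor1 s hs j _ hok, hc, h.x_inv hok, ← h.add j _ _ (hcok.mul hok) hok]
      congr 1
      field_simp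
    rw [← h1]
    exact Subgroup.commutator_mem_commutator hhs (hx j hj _ hok)
  have hsh : s⁻¹ * shp σ s ≠ 1 := by
    intro h0
    apply hs1
    apply h.eq_one_of_shp hs
    have : s * (s⁻¹ * shp σ s) = s * 1 := by rw [h0]
    rwa [mul_inv_cancel_left₀ hs, mul_one] at this
  have h3 : ∀ a, x 3 a ∈ ⁅P, P⁆ := fun a =>
    key 3 _ (by decide) rfl (by
      have : chS σ ((3 : ZMod 12) - 1) s = s⁻¹ * shp σ s := rfl
      rw [this]; exact hsh) (ok3 _) a (ok3 a)
  have h5 : ∀ a, x 5 a ∈ ⁅P, P⁆ := fun a =>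
    key 5 _ (by decide) rfl (by
      have : chS σ ((5 : ZMod 12) - 1) s = s * (shp σ s)⁻¹ := rfl
      rw [this]
      intro h0
      apply hsh
      have h1 : (s * (shp σ s)⁻¹)⁻¹ = 1 := by rw [h0, inv_one]
      rw [mul_inv, inv_inv] at h1
      exact h1) (ok5 _) a (ok5 a)
  have h4 : ∀ t, σ t = t → x 4 t ∈ ⁅P, P⁆ := by
    intro t ht
    have h1 := h.commL4 (k := 2) (by decide) ht o
    rw [mul_one] at h1
    have h2 : x 4 t = ⁅x 2 t, x (2 + 4) 1⁆ := by rw [h1]; rfl
    rw [h2]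
    exact Subgroup.commutator_mem_commutator (hx 2 (by decide) t (ok_of_fix 2 ht))
      (hx 6 (by decide) 1 (ok_of_fix 6 o))
  -- `X 2` from `[x 1 1, x 6 t]`
  have h2 : ∀ t, σ t = t → x 2 t ∈ ⁅P, P⁆ := by
    intro t ht
    have h1 := h.c16 1 ht
    have n1 : nrm σ (1 : E) = 1 := nrm_one
    have n2 : shp σ (1 : E) = 1 := shp_one
    simp only [n1, n2, mul_one] at h1
    have h6 : ⁅x 1 1, x 6 t⁆ = x 2 t * x 3 t * x 4 (t ^ 2) * x 5 t := by
      rw [commutatorElement_def, h1]; group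
    have h7 : ⁅x 1 1, x 6 t⁆ ∈ ⁅P, P⁆ := Subgroup.commutator_mem_commutator (hx 1 (by decide) 1 (ok1 1))
      (hx 6 (by decide) t (ok_of_fix 6 ht))
    rw [h6] at h7
    have h8 : x 2 t = x 2 t * x 3 t * x 4 (t ^ 2) * x 5 t * (x 3 t * x 4 (t ^ 2) * x 5 t)⁻¹ := by group
    rw [h8]
    exact mul_mem h7 (inv_mem (mul_mem (mul_mem (h3 t) (h4 _ (by rw [map_pow, ht]))) (h5 t)))
  -- `X 6` by reflection
  have hnn : nn x 1 ∈ ⁅P, P⁆ := by
    unfold nn
    exact mul_mem (mul_mem (h17 1).1 (h17 1).2) (h17 1).1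
  have h6 : ∀ t, σ t = t → x 6 t ∈ ⁅P, P⁆ := by
    intro t ht
    have h1 := h.refl1 2 t (ok_of_fix 2 ht)
    rw [show (8 : ZMod 12) - 2 = 6 by decide] at h1
    rw [← h1]
    exact mul_mem (mul_mem hnn (h2 t ht)) (inv_mem hnn)
  apply le_antisymm
  · rw [Subgroup.commutator_le]
    intro a ha b hb
    rw [commutatorElement_def]
    exact mul_mem (mul_mem (mul_mem ha hb) (inv_mem ha)) (inv_mem hb)
  · rw [hP]
    apply gen_le
    intro k hk a ha
    rw [← hP]
    have hk' : k = 1 ∨ k = 2 ∨ k = 3 ∨ k = 4 ∨ k = 5 ∨ k = 6 ∨ k = 7 := by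
      rw [mem_arc] at hk
      clear ha
      revert hk; revert k; decide
    rcases hk' with rfl | rfl | rfl | rfl | rfl | rfl | rfl
    · exact (h17 a).1
    · exact h2 a (ha (by decide))
    · exact h3 a
    · exact h4 a (ha (by decide))
    · exact h5 a
    · exact h6 a (ha (by decide))
    · exact (h17 a).2

/-- Subgroups generated by root elements are generated by 2-elements. -/
theorem gen_two (S : Set (ZMod 12)) : gen σ x S ≤ Subgroup.closure {y | y ∈ gen σ x S ∧ ∃ k : ℕ, y ^ 2 ^ k = 1} := by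
  apply gen_le
  intro k hk a ha
  apply Subgroup.subset_closure
  exact ⟨x_mem_gen hk ha, 1, by rw [pow_one, pow_two, h.x_sq ha]⟩

theorem P1_P2 [Finite E] {s : E} (hs : s ≠ 0) (hs1 : s ≠ 1) : P2 (gen σ x (arc 1 7)) :=
  ⟨P1_perfect h hs hs1, gen_two h _⟩

/-- **The facts on long involutions.** -/
theorem longF [Finite E] [Finite G] {s : E} (hs : s ≠ 0) (hs1 : s ≠ 1) :
    LongF (AA σ x) (UU σ x) (gen σ x (arc 1 7)) (gen σ x {4}) where
  Z_iff := by
    intro z
    constructor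
    · intro hz
      refine ⟨gen_mono (by rintro l rfl; rw [mem_arc]; decide) hz, fun u hu => ?_⟩
      exact (X4_comm h hz (gen_mono (arc_mono (by norm_num)) hu)).symm
    · rintro ⟨h1, h2⟩
      exact mem_center_U h h1 h2
  Z_two := by
    intro z hz
    obtain ⟨t, ht, rfl⟩ := h.mem_gen_singleton.1 hz
    exact h.x_sq ht
  U_P1 := gen_mono (arc_mono (by norm_num))
  P1_A := gen_le_AA _
  P1_P2 := P1_P2 h hs hs1
  P1_Z := fun p hp z hz => X4_comm h hz hp
  P1_max := by
    intro z hz hz1 a ha haz _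
    obtain ⟨t, ht, rfl⟩ := h.mem_gen_singleton.1 hz
    have ht' : σ t = t := ht (by decide)
    have ht0 : t ≠ 0 := by
      rintro rfl
      exact hz1 (h.x_zero 4)
    apply (h.mem_centralizer_x4 ha ht' ht0).1
    rw [haz]; group
  trans := by
    intro z hz z' hz' hz1 hz1'
    obtain ⟨t, ht, rfl⟩ := h.mem_gen_singleton.1 hz
    obtain ⟨t', ht', rfl⟩ := h.mem_gen_singleton.1 hz'
    have hf : σ t = t := ht (by decide)
    have hf' : σ t' = t' := ht' (by decide)
    have ht0 : t ≠ 0 := by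
      rintro rfl
      exact hz1 (h.x_zero 4)
    have ht0' : t' ≠ 0 := by
      rintro rfl
      exact hz1' (h.x_zero 4)
    have hff : σ (t' / t) = t' / t := by rw [map_div₀, hf, hf']
    have hne : t' / t ≠ 0 := div_ne_zero ht0' ht0
    refine ⟨hh x 6 (t' / t), hh_mem_AA 6 (ok_of_fix 6 hff), fun u hu => ?_, ?_⟩
    · exact h.H_conj_gen (h.hh6_mem_H hne hff) _ hu
    · rw [h.tor6 _ hne hff 4 t ht]
      have : chL ((4 : ZMod 12) - 6) (t' / t) = t' / t := rfl
      rw [this, div_mul_cancel₀ _ ht0]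

end

end Cfsg.Agent.HexStart
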