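import Cfsg.Agent.HexStart.HexComm
import Cfsg.Agent.StdRank2.HexOut
import Cfsg.Agent.Schreier.Basic

/-!
# Elements acting as field automorphisms

* `sch_AA` : perfect groups of automorphisms of `A` are inner;
* `cU` : an element normalising `A` and centralising `U` induces an inner automorphism of `A`;
* `pure_of_sq` : Hilbert 90 for `U`: an involution `u * f₀`, `f₀` acting as a field automorphism, is `U`-conjugate to `f₀`.
-/

set_option autoImplicit false
set_option linter.unusedSectionVars false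
set_option linter.unusedSimpArgs false

namespace Cfsg.Agent.HexStart

open Cfsg.Agent.SplitTwo Cfsg.Agent.StdRank2.Hex Cfsg.Agent.StdRank2.Hex.HexTwo
open Cfsg.Agent.StdEven.Syl
open scoped commutatorElement

section

variable {E : Type*} [Field E] {σ : E ≃+* E} {G : Type*} [Group G] {x : ZMod 12 → E → G}

/-- `f` acts as the field automorphism `τ`. -/
def Fld (σ : E ≃+* E) (x : ZMod 12 → E → G) (f : G) (τ : E ≃+* E) : Prop :=
  ∀ k a, Ok σ k a → f * x k a * f⁻¹ = x k (τ a)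

theorem ok_map {τ : E ≃+* E} (hτ : ∀ a, τ (σ a) = σ (τ a)) {k : ZMod 12} {a : E} (ha : Ok σ k a) : Ok σ k (τ a) :=
  fun h0 => by rw [← hτ, ha h0]

theorem Fld.gen {f : G} {τ : E ≃+* E} (hf : Fld σ x f τ) (hτ : ∀ a, τ (σ a) = σ (τ a)) {S : Set (ZMod 12)} {y : G}
    (hy : y ∈ gen σ x S) : f * y * f⁻¹ ∈ gen σ x S :=
  conj_gen (fun k hk a ha => by rw [hf k a ha]; exact x_mem_gen hk (ok_map hτ ha)) hy

theorem Fld.mul {f g : G} {τ ρ : E ≃+* E} (hf : Fld σ x f τ) (hg : Fld σ x g ρ) (hρ : ∀ a, ρ (σ a) = σ (ρ a)) :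
    Fld σ x (f * g) (ρ.trans τ) := fun k a ha => by
  have e : f * g * x k a * (f * g)⁻¹ = f * (g * x k a * g⁻¹) * f⁻¹ := by group
  rw [e, hg k a ha, hf k _ (ok_map hρ ha)]
  rfl

theorem Fld.comm_one {f : G} {τ : E ≃+* E} (hf : Fld σ x f τ) (k : ZMod 12) : f * x k 1 = x k 1 * f := by
  have := hf k 1 (ok_one σ k)
  rw [map_one] at this
  exact mul_inv_eq_iff_eq_mul.mp this

theorem Fld.comm_nn {f : G} {τ : E ≃+* E} (hf : Fld σ x f τ) (k : ZMod 12) : f * nn x k = nn x k * f := by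
  unfold nn
  have h1 := hf.comm_one k
  have h2 := hf.comm_one (k + 6)
  calc f * (x k 1 * x (k + 6) 1 * x k 1) = (f * x k 1) * x (k + 6) 1 * x k 1 := by group
    _ = x k 1 * (f * x (k + 6) 1) * x k 1 := by rw [h1]; group
    _ = x k 1 * x (k + 6) 1 * (f * x k 1) := by rw [h2]; group
    _ = x k 1 * x (k + 6) 1 * x k 1 * f := by rw [h1]; group

variable (h : HexTwo σ x)
include h

/-- an element of `U` acting as a field automorphism is trivial. -/
theorem eq_one_of_fld {v : G} (hv : v ∈ UU σ x) {τ : E ≃+* E} (hf : Fld σ x v τ) : v = 1 := by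
  apply h.opp_one hv
  have h1 : nn x 1 * v * (nn x 1)⁻¹ = v := by rw [← hf.comm_nn 1]; group
  have h4 : nn x 4 * v * (nn x 4)⁻¹ = v := by rw [← hf.comm_nn 4]; group
  have h2 := h.nn_conj_gen 1 (S := arc 1 6) (T := arc 2 6) (by
    intro l hl
    rw [mem_arc] at hl ⊢
    revert hl; revert l; decide) hv
  rw [h1] at h2
  have h3 := h.nn_conj_gen 4 (S := arc 2 6) (T := arc (1 + 6) 6) (by
    intro l hl
    rw [mem_arc] at hl ⊢
    revert hl; revert l; decide) h2
  rwa [h4] at h3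

/-- additive Hilbert 90 -/
theorem exists_trace_one {τ : E ≃+* E} (hτ : ∀ a, τ (σ a) = σ (τ a)) (h2 : ∀ a, τ (τ a) = a) (hne : ∃ a, τ a ≠ a) :
    ∃ b, σ b = b ∧ b + τ b = 1 := by
  obtain ⟨c, hc⟩ := hne
  set e := c + τ c with he
  have he0 : e ≠ 0 := by
    intro h0
    apply hc
    have := eq_neg_of_add_eq_zero_left h0
    rw [h.neg_eq] at this
    exact this.symm
  have hee : τ e = e := by rw [he, map_add, h2, add_comm]
  have h1 : c / e + τ (c / e) = 1 := by
    rw [map_div₀, hee, ← add_div, ← he, div_self he0]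
  refine ⟨trc σ (c / e) 1, h.fix_trc _ _, ?_⟩
  have h3 : τ (trc σ (c / e) 1) = trc σ (τ (c / e)) 1 := by
    unfold trc
    simp only [mul_one, map_add, hτ, map_one]
  rw [h3, ← trc_add_left, h1, h.trc_one_right (map_one σ)]

/-- one layer of the filtration -/
theorem hilbert_layer {f : G} {τ : E ≃+* E} (hf : Fld σ x f τ) (hτ : ∀ a, τ (σ a) = σ (τ a)) (hff : f * f = 1)
    {c : E} (hc : σ c = c) (hc1 : c + τ c = 1) (n : ℕ) (hn : n ≤ 6) :
    ∀ u ∈ gen σ x (arc (7 - (n : ZMod 12)) n), u * (f * u * f⁻¹) = 1 →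
      ∃ v ∈ gen σ x (arc (7 - (n : ZMod 12)) n), u = v⁻¹ * (f * v * f⁻¹) := by
  induction n with
  | zero =>
    intro u hu _
    rw [gen_arc_zero, Subgroup.mem_bot] at hu
    exact ⟨1, one_mem _, by rw [hu]; group⟩
  | succ n ih =>
    intro u hu hu1
    have hn5 : n ≤ 5 := by omega
    have hk : (7 : ZMod 12) - ((n + 1 : ℕ) : ZMod 12) + 1 = 7 - (n : ZMod 12) := by push_cast; ring
    set k : ZMod 12 := 7 - ((n + 1 : ℕ) : ZMod 12) with hkd
    obtain ⟨a, ha, v', hv', rfl⟩ := (h.mem_gen_first hn5).1 hu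
    have hfv : f * v' * f⁻¹ ∈ gen σ x (arc (k + 1) n) := hf.gen hτ hv'
    have hτa := ok_map hτ ha
    -- `τ a = a`
    have e1 : f * (x k a * v') * f⁻¹ = x k (τ a) * (f * v' * f⁻¹) := by
      rw [← hf k a ha]; group
    rw [e1] at hu1
    have hc' : x k (τ a) * v' * (x k (τ a))⁻¹ ∈ gen σ x (arc (k + 1) n) := h.conj_first hn5 hτa hv'
    have e2 : x k (a + τ a) * ((x k (τ a) * v' * (x k (τ a))⁻¹) * (f * v' * f⁻¹)) = x k 0 * 1 := by
      rw [h.x_zero, mul_one, ← hu1, h.add k a (τ a) ha hτa]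
      have e3 := h.x_sq hτa
      have e4 := h.x_inv hτa
      rw [e4]
      calc x k a * x k (τ a) * (x k (τ a) * v' * x k (τ a) * (f * v' * f⁻¹))
          = x k a * (x k (τ a) * x k (τ a)) * v' * x k (τ a) * (f * v' * f⁻¹) := by group
        _ = x k a * v' * (x k (τ a) * (f * v' * f⁻¹)) := by rw [e3]; group
    have e5 := (h.uniq_first hn5 (ha.add hτa) (ok_zero σ k) (mul_mem hc' hfv) (one_mem _) e2).1
    have hta : τ a = a := by
      have := eq_neg_of_add_eq_zero_left e5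
      rw [h.neg_eq] at this
      exact this.symm
    -- correct
    have hb : Ok σ k (a * c) := ha.mul (ok_of_fix k hc)
    have hτb : τ (a * c) = a * c + a := by
      have h1 : τ c = c + 1 := by
        have h2 : τ c = c + (c + τ c) := by rw [← add_assoc, h.add_self, zero_add]
        rw [h2, hc1]
      rw [map_mul, hta, h1]; ring
    have hbo := ok_map hτ hb
    set w := x k (a * c) with hw
    have e6 : f * w * f⁻¹ = w * x k a := by
      rw [hw, hf k _ hb, hτb, h.add k _ _ hb ha]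
    have e7 : w * (x k a * v') * (f * w * f⁻¹)⁻¹ = (w * x k a) * v' * (w * x k a)⁻¹ := by rw [e6]; group
    have hww : w * x k a = x k (a * c + a) := by rw [hw, h.add k _ _ hb ha]
    have h8 : w * (x k a * v') * (f * w * f⁻¹)⁻¹ ∈ gen σ x (arc (k + 1) n) := by
      rw [e7, hww]
      exact h.conj_first hn5 (hb.add ha) hv'
    have hfi : f⁻¹ = f := inv_eq_of_mul_eq_one_left hff
    obtain ⟨v, hv, e9⟩ := ih (by omega) (w * (x k a * v') * (f * w * f⁻¹)⁻¹) (by rw [← hk]; exact h8) (by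
      have e10 : f * (w * (x k a * v') * (f * w * f⁻¹)⁻¹) * f⁻¹ =
          (f * w * f⁻¹) * (f * (x k a * v') * f⁻¹) * ((f * f) * w⁻¹ * (f * f)⁻¹) := by group
      rw [e10, e1, hff]
      calc w * (x k a * v') * (f * w * f⁻¹)⁻¹ * (f * w * f⁻¹ * (x k (τ a) * (f * v' * f⁻¹)) * (1 * w⁻¹ * 1⁻¹))
          = w * (x k a * v' * (x k (τ a) * (f * v' * f⁻¹))) * w⁻¹ := by group
        _ = 1 := by rw [hu1]; group)
    rw [← hk] at hv
    have hwm : w ∈ gen σ x (arc k (n + 1)) := x_mem_gen (self_mem_arc (by omega)) hb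
    refine ⟨v * w, mul_mem (gen_mono (arc_succ_sub (by omega)) hv) hwm, ?_⟩
    calc x k a * v' = w⁻¹ * (w * (x k a * v') * (f * w * f⁻¹)⁻¹) * (f * w * f⁻¹) := by group
      _ = w⁻¹ * (v⁻¹ * (f * v * f⁻¹)) * (f * w * f⁻¹) := by rw [e9]
      _ = (v * w)⁻¹ * (f * (v * w) * f⁻¹) := by group

/-- **Hilbert 90 for `U`.** -/
theorem pure_of_sq {u f : G} (hu : u ∈ UU σ x) {τ : E ≃+* E} (hf : Fld σ x f τ) (hτ : ∀ a, τ (σ a) = σ (τ a))
    (hsq : (u * f) * (u * f) = 1) (hne : ∃ a, τ a ≠ a) :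
    f * f = 1 ∧ (∀ a, τ (τ a) = a) ∧ (∃ b, σ b = b ∧ b + τ b = 1) ∧ ∃ v ∈ UU σ x, v * (u * f) * v⁻¹ = f := by
  have hfu : f * u * f⁻¹ ∈ UU σ x := hf.gen hτ hu
  have hffU : f * f ∈ UU σ x := by
    have : f * f = (u * (f * u * f⁻¹))⁻¹ * (u * f * (u * f)) := by group
    rw [this, hsq, mul_one]
    exact inv_mem (mul_mem hu hfu)
  have hff : f * f = 1 := eq_one_of_fld h hffU (hf.mul hf hτ)
  have hττ : ∀ a, τ (τ a) = a := by
    intro a
    have h1 := hf.mul hf hτ 1 a (ok1 a)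
    rw [hff, one_mul, inv_one, mul_one] at h1
    exact ((h.x_inj (ok1 a) (ok1 _)).1 h1).symm
  obtain ⟨c, hc, hc1⟩ := exists_trace_one h hτ hττ hne
  refine ⟨hff, hττ, ⟨c, hc, hc1⟩, ?_⟩
  have hu1 : u * (f * u * f⁻¹) = 1 := by
    calc u * (f * u * f⁻¹) = u * f * (u * f) * (f * f)⁻¹ := by group
      _ = 1 := by rw [hsq, hff, inv_one, mul_one]
  have h61 : (7 : ZMod 12) - ((6 : ℕ) : ZMod 12) = 1 := by decide
  obtain ⟨v, hv, hv1⟩ := hilbert_layer h hf hτ hff hc hc1 6 le_rfl u (by rw [h61]; exact hu) hu1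
  rw [h61] at hv
  refine ⟨v, hv, ?_⟩
  have : v * (u * f) * v⁻¹ = v * u * f * v⁻¹ := by group
  rw [this, hv1]
  calc v * (v⁻¹ * (f * v * f⁻¹)) * f * v⁻¹ = f := by group

/-- **`cU`**: an element normalising `A` and centralising `U` induces an inner automorphism of `A`. -/
theorem cU [Finite E] [Finite G] (hN : NotTwo σ) {y : G} (hy : ∀ v ∈ AA σ x, y * v * y⁻¹ ∈ AA σ x)
    (hc : ∀ u ∈ UU σ x, y * u = u * y) : ∃ a ∈ AA σ x, a⁻¹ * y ∈ Subgroup.centralizer (AA σ x : Set G) := by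
  obtain ⟨g, hg, ρ, hρ, hf⟩ := out h hN hy
  -- `g` normalises `U`
  have hgU : ∀ u ∈ UU σ x, g * u * g⁻¹ ∈ UU σ x := by
    intro u hu
    have h1 : g * y * u * (g * y)⁻¹ ∈ UU σ x := Fld.gen (x := x) hf hρ hu
    have h2 : g * y * u * (g * y)⁻¹ = g * u * g⁻¹ := by
      have := hc u hu
      calc g * y * u * (g * y)⁻¹ = g * (y * u) * y⁻¹ * g⁻¹ := by group
        _ = g * u * g⁻¹ := by rw [this]; group
    rwa [h2] at h1
  obtain ⟨u, hu, s, hs, rfl⟩ := h.mem_normalizer_U hg hgU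
  obtain ⟨m, hm, hm', ham⟩ := h.H_diag hs 1
  -- the field automorphism is trivial
  have key : ∀ a, ρ a = m * a := by
    intro a
    have h1 := hf 1 a (ok1 a)
    have h2 : u * s * y * x 1 a * (u * s * y)⁻¹ = u * (s * x 1 a * s⁻¹) * u⁻¹ := by
      have := hc (x 1 a) (x_mem_gen (self_mem_arc (by norm_num)) (ok1 a))
      calc u * s * y * x 1 a * (u * s * y)⁻¹ = u * s * (y * x 1 a) * y⁻¹ * s⁻¹ * u⁻¹ := by group
        _ = u * (s * x 1 a * s⁻¹) * u⁻¹ := by rw [this]; group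
    rw [h2, ham a (ok1 a)] at h1
    obtain ⟨b, hb, v, hv, rfl⟩ := (h.mem_gen_first (k := 1) (n := 5) le_rfl).1 hu
    have h3 : x 1 (m * a) * ((x 1 (m * a))⁻¹ * (x 1 b * v) * x 1 (m * a) * (x 1 b * v)⁻¹) = x 1 (ρ a) * 1 := by
      rw [mul_one, ← h1]; group
    refine (h.uniq_first (k := 1) (n := 5) le_rfl (ok1 _) (ok1 _) ?_ (one_mem _) h3).1.symm
    have h4 := comm_U_Q1 h (u := (x 1 (m * a))⁻¹) (u' := x 1 b * v)
      (inv_mem (x_mem_gen (self_mem_arc (by norm_num)) (ok1 _))) hu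
    rw [commutatorElement_def, inv_inv] at h4
    exact h4
  have hm1 : m = 1 := by
    have := key 1
    rw [map_one, mul_one] at this
    exact this.symm
  refine ⟨(u * s)⁻¹, inv_mem hg, ?_⟩
  rw [inv_inv, Subgroup.mem_centralizer_iff]
  have h5 : AA σ x ≤ Subgroup.centralizer ({u * s * y} : Set G) := gen_le fun k _ a ha => by
    rw [Subgroup.mem_centralizer_singleton_iff]
    have h6 := hf k a ha
    rw [key a, hm1, one_mul] at h6
    exact (mul_inv_eq_iff_eq_mul.mp h6).symm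
  intro v hv
  exact Subgroup.mem_centralizer_singleton_iff.mp (h5 hv)

/-- **The Schreier property of `A`.** -/
theorem sch_AA [Finite E] [Finite G] (hN : NotTwo σ) : Cfsg.Agent.Schreier.Basic.Sch ↥(AA σ x) := by
  classical
  let x' : ZMod 12 → E → ↥(AA σ x) := fun k a => if ha : Ok σ k a then ⟨x k a, x_mem_AA ha⟩ else 1
  have hx' : ∀ k a, Ok σ k a → x k a = (AA σ x).subtype (x' k a) := by
    intro k a ha
    simp only [x', dif_pos ha, Subgroup.coe_subtype]
  have h' : HexTwo σ x' := h.comap (AA σ x).subtype Subtype.val_injective hx'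
  have htop : AA σ x' = ⊤ := by
    have h1 : AA σ x = (AA σ x').map (AA σ x).subtype := map_gen (AA σ x).subtype hx' Set.univ
    apply Subgroup.map_injective (AA σ x).subtype_injective
    rw [← h1, ← MonoidHom.range_eq_map, Subgroup.range_subtype]
  have key1 : ∀ α : MulAut ↥(AA σ x), ∃ g : ↥(AA σ x), ∃ τ : E ≃+* E, ∀ k a, Ok σ k a → α (x' k a) = g * x' k (τ a) * g⁻¹ := by
    intro α
    have h1 : HexTwo σ (fun k a => α (x' k a)) := h'.map α.toMonoidHom α.injective (fun _ _ _ => rfl)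
    have h2 : AA σ (fun k a => α (x' k a)) = AA σ x' := by
      have h3 : AA σ (fun k a => α (x' k a)) = (AA σ x').map α.toMonoidHom :=
        map_gen α.toMonoidHom (fun _ _ _ => rfl) Set.univ
      rw [h3, htop, ← MonoidHom.range_eq_map]
      exact MonoidHom.range_eq_top.mpr α.surjective
    obtain ⟨g, -, τ, hτ⟩ := exists_conj h' h1 hN h2
    exact ⟨g, τ, hτ⟩
  intro C hC
  rw [← hC, Subgroup.commutator_le]
  intro α _ β _
  obtain ⟨g, τ, h1⟩ := key1 α
  obtain ⟨g', τ', h2⟩ := key1 β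
  set m := α g' * g * (β g * g')⁻¹ with hm
  have h3 : ∀ v : ↥(AA σ x), α (β v) = m * β (α v) * m⁻¹ := by
    have h4 : AA σ x' ≤ MonoidHom.eqLocus (((α * β : MulAut ↥(AA σ x)) : ↥(AA σ x) ≃* ↥(AA σ x)).toMonoidHom)
        (((MulAut.conj m * (β * α) : MulAut ↥(AA σ x)) : ↥(AA σ x) ≃* ↥(AA σ x)).toMonoidHom) := gen_le fun k _ a ha => by
      have hτ : Ok σ k (τ a) := ok_map (fun b => field_comm τ σ b) ha
      have hτ' : Ok σ k (τ' a) := ok_map (fun b => field_comm τ' σ b) ha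
      change α (β (x' k a)) = m * β (α (x' k a)) * m⁻¹
      rw [h2 k a ha, h1 k a ha, map_mul, map_mul, map_mul, map_mul, h1 k _ hτ', h2 k _ hτ, field_comm τ' τ a, map_inv,
        map_inv, hm]
      group
    intro v
    exact h4 (by rw [htop]; trivial)
  refine ⟨m, ?_⟩
  have h5 : α * β = MulAut.conj m * (β * α) := by
    ext v
    have := h3 v
    exact congrArg Subtype.val this
  rw [commutatorElement_def]
  calc MulAut.conj m = MulAut.conj m * (β * α) * (α⁻¹ * β⁻¹) := by group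
    _ = α * β * (α⁻¹ * β⁻¹) := by rw [h5]
    _ = α * β * α⁻¹ * β⁻¹ := by group

end

end Cfsg.Agent.HexStart
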