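import Cfsg.Agent.HexStart.HexCentShort

/-!
# The facts on short involutions used for the start, from `HexTwo`
-/

set_option autoImplicit false
set_option linter.unusedSectionVars false
set_option linter.unusedSimpArgs false

namespace Cfsg.Agent.HexStart

open Cfsg.Agent.SplitTwo Cfsg.Agent.StdRank2.Hex Cfsg.Agent.StdRank2.Hex.HexTwo
open Cfsg.Agent.StdEven.Syl
open scoped commutatorElement

section

variable {E : Type*} [Field E] {σ : E ≃+* E} {G : Type*} [Group G] {x : ZMod 12 → E → G} (h : HexTwo σ x)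

/-! ### arithmetic -/

include h in
theorem trc_fix_one {t : E} (ht : σ t = t) : trc σ t 1 = t := by rw [trc_comm, h.trc_one_right ht]

include h in
theorem trc_sq (e : E) (he : trc σ e 1 = 0) : trc σ (e * e) 1 = 0 := by
  have h1 : trc σ (e * e) 1 = trc σ e 1 * trc σ e 1 := by
    unfold trc
    simp only [mul_one, map_mul]
    have h2 := h.two
    have : (e + σ e + σ (σ e)) * (e + σ e + σ (σ e)) =
        e * e + σ e * σ e + σ (σ e) * σ (σ e) + 2 * (e * σ e + e * σ (σ e) + σ e * σ (σ e)) := by ring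
    rw [this, h2, zero_mul, add_zero]
  rw [h1, he, zero_mul]

include h in
/-- Lemma A -/
theorem eq_zero_of_crs {e : E} (he : trc σ e 1 = 0) (hc : ∀ y, trc σ y 1 = 0 → crs σ e y = 0) : e = 0 := by
  by_contra h0
  have h1 := hc (e * e) (trc_sq h e he)
  have h2 : σ (σ e) = σ e := by
    unfold crs at h1
    rw [map_mul, map_mul] at h1
    have h3 : σ e * σ (σ e) * (σ (σ e) + σ e) = 0 := by rw [← h1]; ring
    have h4 : σ e ≠ 0 := by rwa [ne_eq, EmbeddingLike.map_eq_zero_iff]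
    have h5 : σ (σ e) ≠ 0 := by rwa [ne_eq, EmbeddingLike.map_eq_zero_iff]
    have h6 := (mul_eq_zero.mp h3).resolve_left (mul_ne_zero h4 h5)
    have h7 := eq_neg_of_add_eq_zero_left h6
    rwa [h.neg_eq] at h7
  have h3 : σ e = e := σ.injective h2
  rw [trc_fix_one h h3] at he
  exact h0 he

include h in
/-- Lemma B -/
theorem fix_of_trc {c : E} (hc : ∀ y, trc σ y 1 = 0 → trc σ y c = 0) : σ c = c := by
  have ht := h.fix_trc c 1
  set t := trc σ c 1 with htd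
  have h1 : trc σ (c + t) 1 = 0 := by
    rw [trc_add_left, trc_fix_one h ht, ← htd, h.add_self]
  have h2 : ∀ y, trc σ y (c + t) = 0 := by
    intro y
    have hy := h.fix_trc y 1
    set y0 := trc σ y 1 with hy0
    have hy1 : trc σ (y + y0) 1 = 0 := by
      rw [trc_add_left, trc_fix_one h hy, ← hy0, h.add_self]
    have e1 : y = y0 + (y + y0) := by
      rw [add_comm y y0, ← add_assoc, h.add_self, zero_add]
    rw [e1, trc_add_left]
    have e2 : trc σ y0 (c + t) = 0 := by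
      have : y0 = y0 * 1 := (mul_one y0).symm
      rw [this, trc_smul_left hy, trc_comm, h1, mul_zero]
    have e3 : trc σ (y + y0) (c + t) = 0 := by
      rw [trc_add_right, hc _ hy1, zero_add]
      have : t = t * 1 := (mul_one t).symm
      rw [this, trc_smul_right ht, hy1, mul_zero]
    rw [e2, e3, add_zero]
  have h3 : c + t = 0 := by
    by_contra h0
    have h4 := h2 (1 / (c + t))
    rw [trc_comm, h.trc_div h0 (map_one σ)] at h4
    exact one_ne_zero h4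
  have h4 := eq_neg_of_add_eq_zero_left h3
  rw [h.neg_eq] at h4
  rw [h4]; exact ht

/-! ### the groups -/

/-- a perfect subgroup of the centraliser of `x 3 1` -/
def Dsh (σ : E ≃+* E) (x : ZMod 12 → E → G) : Subgroup G :=
  Subgroup.closure {y | (∃ k ∈ ({0, 2, 4, 6} : Set (ZMod 12)), ∃ a, σ a = a ∧ y = x k a) ∨
    ∃ a, trc σ a 1 = 0 ∧ (y = x 1 a ∨ y = x 5 a)}

theorem x_mem_Dsh {k : ZMod 12} (hk : k ∈ ({0, 2, 4, 6} : Set (ZMod 12))) {a : E} (ha : σ a = a) :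
    x k a ∈ Dsh σ x := Subgroup.subset_closure (Or.inl ⟨k, hk, a, ha, rfl⟩)

theorem x1_mem_Dsh {a : E} (ha : trc σ a 1 = 0) : x 1 a ∈ Dsh σ x :=
  Subgroup.subset_closure (Or.inr ⟨a, ha, Or.inl rfl⟩)

theorem x5_mem_Dsh {a : E} (ha : trc σ a 1 = 0) : x 5 a ∈ Dsh σ x :=
  Subgroup.subset_closure (Or.inr ⟨a, ha, Or.inr rfl⟩)

/-- a normal 2-subgroup of the centraliser of `x 3 1` -/
def Ysh (σ : E ≃+* E) (x : ZMod 12 → E → G) : Subgroup G :=
  gen σ x (arc 1 5) ⊓ Subgroup.centralizer ({x 3 1} : Set G)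

include h

theorem Dsh_le {K : Subgroup G} (h1 : ∀ k ∈ ({0, 2, 4, 6} : Set (ZMod 12)), ∀ a, σ a = a → x k a ∈ K)
    (h2 : ∀ a, trc σ a 1 = 0 → x 1 a ∈ K ∧ x 5 a ∈ K) : Dsh σ x ≤ K := by
  unfold Dsh
  rw [Subgroup.closure_le]
  rintro y (⟨k, hk, a, ha, rfl⟩ | ⟨a, ha, rfl | rfl⟩)
  · exact h1 k hk a ha
  · exact (h2 a ha).1
  · exact (h2 a ha).2

theorem hh6_mem_Dsh {s : E} (hs : σ s = s) : hh x 6 s ∈ Dsh σ x := by
  have h6 : ∀ a, σ a = a → x 6 a ∈ Dsh σ x := fun a ha => x_mem_Dsh (by simp) ha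
  have h0 : ∀ a, σ a = a → x (6 + 6) a ∈ Dsh σ x := fun a ha => by
    have : (6 : ZMod 12) + 6 = 0 := by decide
    rw [this]; exact x_mem_Dsh (by simp) ha
  unfold hh nt nn
  exact mul_mem (mul_mem (mul_mem (h6 s hs) (h0 _ (by rw [map_inv₀, hs]))) (h6 s hs))
    (mul_mem (mul_mem (h6 1 (map_one σ)) (h0 1 (map_one σ))) (h6 1 (map_one σ)))

/-- `Dsh` is perfect. -/
theorem Dsh_perfect [Finite E] {s : E} (hs : s ≠ 0) (hs1 : s ≠ 1) (hsf : σ s = s) : ⁅Dsh σ x, Dsh σ x⁆ = Dsh σ x := by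
  have o : σ (1 : E) = 1 := map_one σ
  have hsh := hh6_mem_Dsh h hsf
  -- the torus element acts by the scalar `c`
  have key : ∀ (j : ZMod 12) (c : E), chL (j - 6) s = c → c ≠ 1 → σ c = c → ∀ a, Ok σ j a →
      x j (a / (c + 1)) ∈ Dsh σ x → x j a ∈ ⁅Dsh σ x, Dsh σ x⁆ := by
    intro j c hc hc1 hcf a ha hm
    have hc1' : c + 1 ≠ 0 := by
      intro h0
      apply hc1
      have := eq_neg_of_add_eq_zero_left h0
      rwa [h.neg_eq] at this
    have hok : Ok σ j (a / (c + 1)) := fun h0 => by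
      rw [map_div₀, map_add, ha h0, hcf, o]
    have h1 : ⁅hh x 6 s, x j (a / (c + 1))⁆ = x j a := by
      rw [commutatorElement_def, h.tor6 s hs hsf j _ hok, hc, h.x_inv hok, ← h.add j _ _ ((ok_of_fix j hcf).mul hok) hok]
      congr 1
      field_simp
    rw [← h1]
    exact Subgroup.commutator_mem_commutator hsh hm
  have hsi : s⁻¹ ≠ 1 := by
    intro h0
    apply hs1
    rw [← inv_inv s, h0, inv_one]
  have hsif : σ s⁻¹ = s⁻¹ := by rw [map_inv₀, hsf]
  have hs2 : s ^ 2 ≠ 1 := by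
    intro h0
    rw [pow_two] at h0
    exact hs1 (h.sq_eq_one h0)
  have hs2f : σ (s ^ 2) = s ^ 2 := by rw [map_pow, hsf]
  have hs2i : (s ^ 2)⁻¹ ≠ 1 := by
    intro h0
    apply hs2
    rw [← inv_inv (s ^ 2), h0, inv_one]
  have hs2if : σ (s ^ 2)⁻¹ = (s ^ 2)⁻¹ := by rw [map_inv₀, hs2f]
  apply le_antisymm
  · rw [Subgroup.commutator_le]
    intro a ha b hb
    rw [commutatorElement_def]
    exact mul_mem (mul_mem (mul_mem ha hb) (inv_mem ha)) (inv_mem hb)
  · apply Dsh_le h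
    · rintro k (rfl | rfl | rfl | hk) a ha
      · exact key 0 ((s ^ 2)⁻¹) rfl hs2i hs2if a (ok_of_fix _ ha) (x_mem_Dsh (by simp) (by
          rw [map_div₀, map_add, ha, hs2if, o]))
      · exact key 2 s⁻¹ rfl hsi hsif a (ok_of_fix _ ha) (x_mem_Dsh (by simp) (by
          rw [map_div₀, map_add, ha, hsif, o]))
      · exact key 4 s rfl hs1 hsf a (ok_of_fix _ ha) (x_mem_Dsh (by simp) (by
          rw [map_div₀, map_add, ha, hsf, o]))
      · rw [Set.mem_singleton_iff] at hk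
        subst hk
        exact key 6 (s ^ 2) rfl hs2 hs2f a (ok_of_fix _ ha) (x_mem_Dsh (by simp) (by
          rw [map_div₀, map_add, ha, hs2f, o]))
    · intro a ha
      have htr : ∀ c : E, σ c = c → trc σ (a / (c + 1)) 1 = 0 := by
        intro c hc
        have : a / (c + 1) = (c + 1)⁻¹ * a := by rw [div_eq_mul_inv, mul_comm]
        rw [this, trc_smul_left (by rw [map_inv₀, map_add, hc, o]), ha, mul_zero]
      exact ⟨key 1 s⁻¹ rfl hsi hsif a (ok1 a) (x1_mem_Dsh (htr _ hsif)),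
        key 5 s rfl hs1 hsf a (ok5 a) (x5_mem_Dsh (htr _ hsf))⟩

theorem Dsh_two : Dsh σ x ≤ Subgroup.closure {y | y ∈ Dsh σ x ∧ ∃ k : ℕ, y ^ 2 ^ k = 1} := by
  apply Dsh_le h
  · intro k hk a ha
    exact Subgroup.subset_closure ⟨x_mem_Dsh hk ha, 1, by rw [pow_one, pow_two, h.x_sq (ok_of_fix k ha)]⟩
  · intro a ha
    exact ⟨Subgroup.subset_closure ⟨x1_mem_Dsh ha, 1, by rw [pow_one, pow_two, h.x_sq (ok1 a)]⟩,
      Subgroup.subset_closure ⟨x5_mem_Dsh ha, 1, by rw [pow_one, pow_two, h.x_sq (ok5 a)]⟩⟩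

theorem Dsh_AA : Dsh σ x ≤ AA σ x := by
  apply Dsh_le h
  · exact fun k _ a ha => x_mem_AA (ok_of_fix k ha)
  · exact fun a _ => ⟨x_mem_AA (ok1 a), x_mem_AA (ok5 a)⟩

theorem Dsh_comm {d : G} (hd : d ∈ Dsh σ x) : d * x 3 1 = x 3 1 * d := by
  have o : σ (1 : E) = 1 := map_one σ
  have h1 : Dsh σ x ≤ Subgroup.centralizer ({x 3 1} : Set G) := by
    apply Dsh_le h
    · rintro k (rfl | rfl | rfl | hk) a ha
      · rw [Subgroup.mem_centralizer_singleton_iff]
        exact swap (h.commL3 (k := 0) (by decide) ha 1)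
      · rw [Subgroup.mem_centralizer_singleton_iff]
        exact h.s23 ha 1
      · rw [Subgroup.mem_centralizer_singleton_iff]
        exact (h.s34 1 ha).symm
      · rw [Set.mem_singleton_iff] at hk
        subst hk
        rw [Subgroup.mem_centralizer_singleton_iff]
        exact (h.s36 1 ha).symm
    · intro a ha
      rw [Subgroup.mem_centralizer_singleton_iff, Subgroup.mem_centralizer_singleton_iff]
      refine ⟨?_, ?_⟩
      · rw [h.c13, ha, h.x_zero, one_mul]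
      · have := h.c35 1 a
        rw [trc_comm, ha, h.x_zero, one_mul] at this
        exact this.symm
  exact Subgroup.mem_centralizer_singleton_iff.mp (h1 hd)

/-- `Q2` centralises `W`. -/
theorem Q2_W {u : G} (hu : u ∈ gen σ x (arc 1 5)) {w : G} (hw : w ∈ gen σ x {2, 4}) : u * w = w * u := by
  obtain ⟨b, d, hb, hd, rfl⟩ := (mem_W h).1 hw
  have h2 : u * x 2 b = x 2 b * u := by
    have : u ∈ Subgroup.centralizer ({x 2 b} : Set G) := by
      refine (gen_le (P := Subgroup.centralizer ({x 2 b} : Set G)) ?_) hu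
      intro k hk a ha
      rw [Subgroup.mem_centralizer_singleton_iff]
      have hk' : k = 1 ∨ k = 2 ∨ k = 3 ∨ k = 4 ∨ k = 5 := by
        rw [mem_arc] at hk
        clear ha
        revert hk; revert k; decide
      rcases hk' with rfl | rfl | rfl | rfl | rfl
      · exact h.s12 a hb
      · exact (h.x_comm_same ha (ok_of_fix 2 hb)).eq
      · exact (h.s23 hb a).symm
      · exact (h.s24 hb (ha (by decide))).symm
      · exact (h.s25 hb a).symm
    exact Subgroup.mem_centralizer_singleton_iff.mp this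
  have h4 := X4_comm h (x_mem_gen (Set.mem_singleton 4) (ok_of_fix 4 hd)) (gen_mono (arc_mono (by norm_num)) hu)
  calc u * (x 2 b * x 4 d) = (u * x 2 b) * x 4 d := by group
    _ = x 2 b * (u * x 4 d) := by rw [h2]; group
    _ = x 2 b * x 4 d * u := by rw [h4]; group

section cent

variable [Finite E]

theorem nn6_W {w : G} (hw : w ∈ gen σ x {2, 4}) : nn x 6 * w * (nn x 6)⁻¹ ∈ gen σ x {2, 4} :=
  h.nn_conj_gen 6 (by
    rintro l (rfl | hl)
    · right; decide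
    · rw [Set.mem_singleton_iff] at hl
      subst hl
      left; decide) hw

theorem nn6_Q2 {w : G} (hw : w ∈ gen σ x (arc 1 5)) : nn x 6 * w * (nn x 6)⁻¹ ∈ gen σ x (arc 1 5) :=
  h.nn_conj_gen 6 (by
    intro l hl
    rw [mem_arc] at hl ⊢
    revert hl; revert l; decide) hw

/-- `C_A(x 3 1)` normalises `W`. -/
theorem cent_W {c : G} (hc : c ∈ AA σ x) (hc3 : c * x 3 1 = x 3 1 * c) {w : G} (hw : w ∈ gen σ x {2, 4}) :
    c * w * c⁻¹ ∈ gen σ x {2, 4} := by
  obtain ⟨u, hu, s, hs, u', hu', he⟩ := cent_form h hc (by rw [hc3]; group)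
  rcases he with rfl | rfl
  · have := U_W h hu (h.H_conj_gen hs _ (U_W h hu' hw))
    have e : u * s * u' * w * (u * s * u')⁻¹ = u * (s * (u' * w * u'⁻¹) * s⁻¹) * u⁻¹ := by group
    rw [e]; exact this
  · have := U_W h hu (h.H_conj_gen hs _ (nn6_W h (U_W h hu' hw)))
    have e : u * s * nn x 6 * u' * w * (u * s * nn x 6 * u')⁻¹ =
        u * (s * (nn x 6 * (u' * w * u'⁻¹) * (nn x 6)⁻¹) * s⁻¹) * u⁻¹ := by group
    rw [e]; exact this

/-- `C_A(x 3 1)` normalises `Q2`. -/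
theorem cent_Q2 {c : G} (hc : c ∈ AA σ x) (hc3 : c * x 3 1 = x 3 1 * c) {w : G} (hw : w ∈ gen σ x (arc 1 5)) :
    c * w * c⁻¹ ∈ gen σ x (arc 1 5) := by
  obtain ⟨u, hu, s, hs, u', hu', he⟩ := cent_form h hc (by rw [hc3]; group)
  rcases he with rfl | rfl
  · have := U_Q2 h hu (h.H_conj_gen hs _ (U_Q2 h hu' hw))
    have e : u * s * u' * w * (u * s * u')⁻¹ = u * (s * (u' * w * u'⁻¹) * s⁻¹) * u⁻¹ := by group
    rw [e]; exact this
  · have := U_Q2 h hu (h.H_conj_gen hs _ (nn6_Q2 h (U_Q2 h hu' hw)))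
    have e : u * s * nn x 6 * u' * w * (u * s * nn x 6 * u')⁻¹ =
        u * (s * (nn x 6 * (u' * w * u'⁻¹) * (nn x 6)⁻¹) * s⁻¹) * u⁻¹ := by group
    rw [e]; exact this

/-- `C_A(x 3 1) ∩ C(W) ≤ Q2`. -/
theorem mem_Q2_of_cent {c : G} (hc : c ∈ AA σ x) (hc3 : c * x 3 1 = x 3 1 * c)
    (hcW : ∀ w ∈ gen σ x {2, 4}, c * w = w * c) : c ∈ gen σ x (arc 1 5) := by
  obtain ⟨u, hu, s, hs, u', hu', he⟩ := cent_form h hc (by rw [hc3]; group)
  have o : σ (1 : E) = 1 := map_one σ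
  have z : σ (0 : E) = 0 := map_zero σ
  have hx4 : x 4 1 ∈ gen σ x {2, 4} := x_mem_gen (Set.mem_insert_of_mem _ (Set.mem_singleton _)) (ok_one σ 4)
  have hx2 : x 2 1 ∈ gen σ x {2, 4} := x_mem_gen (Set.mem_insert _ _) (ok_one σ 2)
  have hU4 : ∀ v ∈ UU σ x, ∀ t, σ t = t → v * x 4 t * v⁻¹ = x 4 t := by
    intro v hv t ht
    have := X4_comm h (x_mem_gen (Set.mem_singleton 4) (ok_of_fix 4 ht)) (gen_mono (arc_mono (by norm_num)) hv)
    rw [this]; group
  have h41 : c * x 4 1 * c⁻¹ = x 4 1 := by rw [hcW _ hx4]; group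
  obtain ⟨m4, hm4, hm4', a4⟩ := h.H_diag hs 4
  rcases he with he | he
  · -- `s = 1`
    have hm4f : σ m4 = m4 := hm4' (by decide)
    have e4 : x 4 m4 = x 4 1 := by
      have e5 : c * x 4 1 * c⁻¹ = u * (s * (u' * x 4 1 * u'⁻¹) * s⁻¹) * u⁻¹ := by rw [he]; group
      rw [hU4 u' hu' 1 o, a4 1 (ok_one σ 4), mul_one, hU4 u hu m4 hm4f, h41] at e5
      exact e5.symm
    have hm41 : m4 = 1 := (h.x_inj (ok_of_fix 4 hm4f) (ok_one σ 4)).1 e4
    obtain ⟨m3, hm3, hm3', a3⟩ := h.H_diag hs 3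
    obtain ⟨m2, hm2, hm2', a2⟩ := h.H_diag hs 2
    obtain ⟨B, D, hB, hD, e1⟩ := conj_x3 h hu' 1
    obtain ⟨B', D', hB', hD', e2⟩ := conj_x3 h (inv_mem hu) 1
    have e3 : x 2 (m2 * B) * x 3 (m3 * 1) * x 4 (m4 * D) = x 2 B' * x 3 1 * x 4 D' := by
      rw [← a2 _ (ok_of_fix 2 hB), ← a3 _ (ok3 1), ← a4 _ (ok_of_fix 4 hD), ← e2]
      calc s * x 2 B * s⁻¹ * (s * x 3 1 * s⁻¹) * (s * x 4 D * s⁻¹) = s * (x 2 B * x 3 1 * x 4 D) * s⁻¹ := by group
        _ = s * (u' * x 3 1 * u'⁻¹) * s⁻¹ := by rw [e1]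
        _ = u⁻¹ * (c * x 3 1 * c⁻¹) * u⁻¹⁻¹ := by rw [he]; group
        _ = u⁻¹ * x 3 1 * u⁻¹⁻¹ := by rw [hc3]; group
    have hq : ∀ b c d : E, x 2 b * x 3 c * x 4 d = q x b c d 0 0 := by
      intro b c d
      unfold q
      rw [h.x_zero, h.x_zero, mul_one, mul_one]
    rw [hq, hq] at e3
    have hm31 : m3 * 1 = 1 := (h.q_inj (by rw [map_mul, hm2' (by decide), hB]) (by rw [map_mul, hm4f, hD]) z hB' hD' z
      e3).2.1
    rw [mul_one] at hm31
    obtain ⟨s1, t1, hs1, ht1, ht1f, rfl⟩ := hs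
    have f4 := a4 1 (ok_one σ 4)
    rw [h.H_act hs1 ht1 ht1f (ok_one σ 4), hm41] at f4
    have f4' : ch σ 1 (4 - 1) s1 * ch σ 6 (4 - 6) t1 * 1 = 1 * 1 := by
      refine (h.x_inj ?_ ?_).1 f4
      · exact ((h.ok_chi 1 4 (ok1 s1)).mul (h.ok_chi 6 4 (ok_of_fix _ ht1f))).mul (ok_one σ 4)
      · exact (ok_one σ 4).mul (ok_one σ 4)
    have f4'' : t1 = 1 := by
      have : ch σ 1 (4 - 1) s1 * ch σ 6 (4 - 6) t1 * 1 = t1 := by
        change (1 : E) * t1 * 1 = t1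
        rw [one_mul, mul_one]
      rw [this, one_mul] at f4'
      exact f4'
    subst f4''
    have f3 := a3 1 (ok3 1)
    rw [h.H_act hs1 ht1 ht1f (ok3 1), hm31] at f3
    have f3' : ch σ 1 (3 - 1) s1 * ch σ 6 (3 - 6) 1 * 1 = 1 * 1 := (h.x_inj (ok3 _) (ok3 _)).1 f3
    have f3'' : s1⁻¹ * shp σ s1 = 1 := by
      have : ch σ 1 (3 - 1) s1 * ch σ 6 (3 - 6) 1 * 1 = s1⁻¹ * shp σ s1 := by
        rw [ch_one, mul_one, mul_one]
        rfl
      rw [this, one_mul] at f3'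
      exact f3'
    have f1 : s1 = 1 := by
      apply h.eq_one_of_shp hs1
      have : s1 * (s1⁻¹ * shp σ s1) = s1 * 1 := by rw [f3'']
      rwa [mul_inv_cancel_left₀ hs1, mul_one] at this
    subst f1
    rw [h.hh_one, h.hh_one, mul_one, mul_one] at he
    -- `c ∈ U` centralises `x 2 1`
    have hcU : c ∈ UU σ x := by rw [he]; exact mul_mem hu hu'
    obtain ⟨a, b, c', d, e, f, hb, hd, hf, rfl⟩ := h.mem_UU.1 hcU
    have h21 := conj_x2 h (a := a) (c := c') (e := e) hb hd hf o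
    rw [hcW _ hx2, mul_inv_cancel_right, mul_one] at h21
    have hf0 : x 4 f = 1 := left_eq_mul.mp h21
    have hf0' : f = 0 := h.inj 4 f (ok_of_fix 4 hf) hf0
    subst hf0'
    unfold uu q
    rw [h.x_zero, mul_one]
    exact mul_mem (x_mem_gen (by rw [mem_arc]; decide) (ok1 a)) (mul_mem (mul_mem (mul_mem
      (x_mem_gen (by rw [mem_arc]; decide) (ok_of_fix 2 hb)) (x_mem_gen (by rw [mem_arc]; decide) (ok3 c')))
      (x_mem_gen (by rw [mem_arc]; decide) (ok_of_fix 4 hd))) (x_mem_gen (by rw [mem_arc]; decide) (ok5 e)))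
  · exfalso
    obtain ⟨m2, hm2, hm2', a2⟩ := h.H_diag hs 2
    have hm2f : σ m2 = m2 := hm2' (by decide)
    have e5 : c * x 4 1 * c⁻¹ = u * (s * (nn x 6 * (u' * x 4 1 * u'⁻¹) * (nn x 6)⁻¹) * s⁻¹) * u⁻¹ := by
      rw [he]; group
    have r4 := h.refl6 4 1 (ok_one σ 4)
    rw [show (6 : ZMod 12) - 4 = 2 by decide] at r4
    rw [hU4 u' hu' 1 o, r4, a2 1 (ok_one σ 2), mul_one, h41] at e5
    obtain ⟨a, b, c', d, e, f, hb, hd, hf, rfl⟩ := h.mem_UU.1 hu
    rw [conj_x2 h hb hd hf hm2f] at e5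
    have hq : ∀ b d : E, x 2 b * x 4 d = q x b 0 d 0 0 := by
      intro b d
      unfold q
      rw [h.x_zero, h.x_zero, h.x_zero, mul_one, mul_one, mul_one]
    rw [hq, ← h.q4] at e5
    exact hm2 (h.q_inj z o z hm2f (by rw [map_mul, hf, hm2f]) z e5).1.symm

theorem Ysh_norm {c : G} (hc : c ∈ AA σ x) (hc3 : c * x 3 1 = x 3 1 * c) {y : G} (hy : y ∈ Ysh σ x) :
    c * y * c⁻¹ ∈ Ysh σ x := by
  obtain ⟨h1, h2⟩ := Subgroup.mem_inf.mp hy
  rw [Subgroup.mem_centralizer_singleton_iff] at h2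
  refine Subgroup.mem_inf.mpr ⟨cent_Q2 h hc hc3 h1, ?_⟩
  rw [Subgroup.mem_centralizer_singleton_iff]
  have h3 : c⁻¹ * x 3 1 = x 3 1 * c⁻¹ := by
    calc c⁻¹ * x 3 1 = c⁻¹ * (x 3 1 * c) * c⁻¹ := by group
      _ = c⁻¹ * (c * x 3 1) * c⁻¹ := by rw [hc3]
      _ = x 3 1 * c⁻¹ := by group
  calc c * y * c⁻¹ * x 3 1 = c * y * (c⁻¹ * x 3 1) := by group
    _ = c * (y * x 3 1) * c⁻¹ := by rw [h3]; group
    _ = (c * x 3 1) * y * c⁻¹ := by rw [h2]; group
    _ = x 3 1 * (c * y * c⁻¹) := by rw [hc3]; group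

/-- `C_A(x 3 1) ∩ C(W) ∩ C(Y ∩ D)`. -/
theorem small_form {c : G} (hc : c ∈ AA σ x) (hc3 : c * x 3 1 = x 3 1 * c)
    (hcW : ∀ w ∈ gen σ x {2, 4}, c * w = w * c) (hcY : ∀ y ∈ Ysh σ x ⊓ Dsh σ x, c * y = y * c) :
    ∃ b e d, σ b = b ∧ σ e = e ∧ σ d = d ∧ c = x 2 b * x 3 e * x 4 d := by
  have hQ := mem_Q2_of_cent h hc hc3 hcW
  have z : σ (0 : E) = 0 := map_zero σ
  have hUU : c ∈ UU σ x := gen_mono (arc_mono (by norm_num)) hQ
  obtain ⟨a, b, c', d, e, f, hb, hd, hf, rfl⟩ := h.mem_UU.1 hUU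
  have hf0 : f = 0 := by
    have h21 := conj_x2 h (a := a) (c := c') (e := e) hb hd hf (map_one σ)
    have hx2 : x 2 1 ∈ gen σ x {2, 4} := x_mem_gen (Set.mem_insert _ _) (ok_one σ 2)
    rw [hcW _ hx2, mul_inv_cancel_right, mul_one] at h21
    exact h.inj 4 f (ok_of_fix 4 hf) (left_eq_mul.mp h21)
  subst hf0
  -- traces
  have hY1 : ∀ y, trc σ y 1 = 0 → x 1 y ∈ Ysh σ x ⊓ Dsh σ x := fun y hy => by
    refine Subgroup.mem_inf.mpr ⟨Subgroup.mem_inf.mpr ⟨x_mem_gen (by rw [mem_arc]; decide) (ok1 y), ?_⟩, x1_mem_Dsh hy⟩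
    rw [Subgroup.mem_centralizer_singleton_iff]
    exact Dsh_comm h (x1_mem_Dsh hy)
  have hY5 : ∀ y, trc σ y 1 = 0 → x 5 y ∈ Ysh σ x ⊓ Dsh σ x := fun y hy => by
    refine Subgroup.mem_inf.mpr ⟨Subgroup.mem_inf.mpr ⟨x_mem_gen (by rw [mem_arc]; decide) (ok5 y), ?_⟩, x5_mem_Dsh hy⟩
    rw [Subgroup.mem_centralizer_singleton_iff]
    exact Dsh_comm h (x5_mem_Dsh hy)
  have h3 : trc σ a 1 = 0 ∧ trc σ e 1 = 0 := by
    rw [← h.q3, ← h.uq, h.uu_mul hb hd z z z z, h.uu_mul z z z hb hd z] at hc3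
    simp only [trc_zero_left, trc_zero_right, crs_zero_left, crs_zero_right, shp_zero, nrm_zero, zero_add, add_zero,
      mul_zero, zero_mul, one_mul, mul_one, one_pow] at hc3
    have t1 := h.fix_trc 1 e
    have t2 := h.fix_trc a 1
    obtain ⟨-, r2, -, r4, -, -⟩ := h.uu_inj hb (by rw [map_add, hd, t1]) z (by rw [map_add, t2, hb])
      (by simp only [map_add, map_mul, map_pow, h.fix_nrm, hd, z]) z hc3
    refine ⟨?_, ?_⟩
    · have : 0 + b = trc σ a 1 + b := by rw [zero_add]; exact r2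
      exact (add_right_cancel this).symm
    · rw [trc_comm]
      have : d + trc σ 1 e = d + 0 := by rw [r4, zero_pow (by norm_num), zero_mul, zero_add, add_zero]
      exact add_left_cancel this
  have h1 : ∀ y, trc σ y 1 = 0 → crs σ e y = 0 ∧ trc σ y c' + trc σ (shp σ y) e = 0 := by
    intro y hy
    have hc1 := hcY _ (hY1 y hy)
    rw [← h.u1, h.uu_mul hb hd z z z z, h.uu_mul z z z hb hd z] at hc1
    simp only [trc_zero_left, trc_zero_right, crs_zero_left, crs_zero_right, shp_zero, nrm_zero, zero_add, add_zero,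
      mul_zero, zero_mul, one_mul, mul_one, one_pow, zero_pow (two_ne_zero)] at hc1
    have t1 := h.fix_trc y c'
    have t2 := h.fix_trc (shp σ y) e
    have t3 := h.fix_trc y (shp σ e)
    obtain ⟨-, r2, r3, -, -, -⟩ := h.uu_inj (by rw [map_add, map_add, hb, t1, t2]) (by rw [map_add, hd, t3]) z hb hd z
      hc1
    refine ⟨?_, ?_⟩
    · have : c' + crs σ y e = c' + 0 := by rw [r3, add_zero]
      rw [crs_comm]
      exact add_left_cancel this
    · have : b + (trc σ y c' + trc σ (shp σ y) e) = b + 0 := by rw [← add_assoc, r2, add_zero]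
      exact add_left_cancel this
  have h5 : ∀ y, trc σ y 1 = 0 → crs σ a y = 0 := by
    intro y hy
    have hc1 := hcY _ (hY5 y hy)
    rw [← h.q5, ← h.uq, h.uu_mul hb hd z z z z, h.uu_mul z z z hb hd z] at hc1
    simp only [trc_zero_left, trc_zero_right, crs_zero_left, crs_zero_right, shp_zero, nrm_zero, zero_add, add_zero,
      mul_zero, zero_mul, one_mul, mul_one, one_pow, zero_pow (two_ne_zero)] at hc1
    have t1 := h.fix_trc c' y
    have t2 := h.fix_trc (shp σ a) y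
    have t3 := h.fix_trc a (shp σ y)
    obtain ⟨-, -, r3, -, -, -⟩ := h.uu_inj hb hd z (by rw [map_add, t2, hb])
      (by simp only [map_add, hd, t1, t3]) z hc1
    have : 0 + c' = crs σ a y + c' := by rw [zero_add]; exact r3
    exact (add_right_cancel this).symm
  have he := eq_zero_of_crs h h3.2 fun y hy => (h1 y hy).1
  have ha := eq_zero_of_crs h h3.1 h5
  subst he ha
  have hc' : σ c' = c' := fix_of_trc h fun y hy => by
    have := (h1 y hy).2
    rwa [trc_zero_right, add_zero] at this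
  refine ⟨b, c', d, hb, hc', hd, ?_⟩
  rw [h.uq]
  unfold q
  rw [h.x_zero, h.x_zero, mul_one, mul_one]

end cent

end

end Cfsg.Agent.HexStart
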