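import Cfsg.Agent.HexStart.HexShort

/-!
# The facts on short involutions used for the start, from `HexTwo`: the structure `ShortF`, and the classes of involutions
-/

set_option autoImplicit false
set_option linter.unusedSectionVars false
set_option linter.unusedSimpArgs false

namespace Cfsg.Agent.HexStart

open Cfsg.Agent.SplitTwo Cfsg.Agent.StdRank2.Hex Cfsg.Agent.StdRank2.Hex.HexTwo
open Cfsg.Agent.StdEven.Syl
open scoped commutatorElement

section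

variable {E : Type*} [Field E] {σ : E ≃+* E} {G : Type*} [Group G] {x : ZMod 12 → E → G} (h : HexTwo σ x)
include h

theorem W_prod {b d b' d' : E} (hb : σ b = b) (hd : σ d = d) (hb' : σ b' = b') (hd' : σ d' = d') :
    x 2 b * x 4 d * (x 2 b' * x 4 d') = x 2 (b + b') * x 4 (d + d') := by
  rw [h.add 2 b b' (ok_of_fix _ hb) (ok_of_fix _ hb'), h.add 4 d d' (ok_of_fix _ hd) (ok_of_fix _ hd')]
  have e := h.s24 hb' hd
  calc x 2 b * x 4 d * (x 2 b' * x 4 d') = x 2 b * (x 4 d * x 2 b') * x 4 d' := by group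
    _ = x 2 b * (x 2 b' * x 4 d) * x 4 d' := by rw [e]
    _ = _ := by group

theorem W_inj {b d b' d' : E} (hb : σ b = b) (hd : σ d = d) (hb' : σ b' = b') (hd' : σ d' = d')
    (e : x 2 b * x 4 d = x 2 b' * x 4 d') : b = b' ∧ d = d' := by
  have hq : ∀ b d : E, x 2 b * x 4 d = q x b 0 d 0 0 := by
    intro b d
    unfold q
    rw [h.x_zero, h.x_zero, h.x_zero, mul_one, mul_one, mul_one]
  have z : σ (0 : E) = 0 := map_zero σ
  rw [hq, hq] at e
  have := h.q_inj hb hd z hb' hd' z e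
  exact ⟨this.1, this.2.2.1⟩

theorem conj_W {a b c d e f : E} (hb : σ b = b) (hd : σ d = d) (hf : σ f = f) {s t : E} (hs : σ s = s) (ht : σ t = t) :
    uu x a b c d e f * (x 2 s * x 4 t) * (uu x a b c d e f)⁻¹ = x 2 s * x 4 (f * s + t) := by
  have e1 : uu x a b c d e f * x 4 t * (uu x a b c d e f)⁻¹ = x 4 t := by
    have := X4_comm h (x_mem_gen (Set.mem_singleton 4) (ok_of_fix 4 ht)) (gen_mono (arc_mono (by norm_num))
      (uu_mem (x := x) (a := a) (c := c) (e := e) hb hd hf))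
    rw [this]; group
  have e2 : uu x a b c d e f * (x 2 s * x 4 t) * (uu x a b c d e f)⁻¹ =
      (uu x a b c d e f * x 2 s * (uu x a b c d e f)⁻¹) * (uu x a b c d e f * x 4 t * (uu x a b c d e f)⁻¹) := by
    group
  rw [e2, e1, conj_x2 h hb hd hf hs]
  rw [h.add 4 _ _ (ok_of_fix 4 (by rw [map_mul, hf, hs])) (ok_of_fix 4 ht)]
  group

/-- commutators of elements of `U` centralise `W`. -/
theorem comm_U_W {u u' : G} (hu : u ∈ UU σ x) (hu' : u' ∈ UU σ x) {w : G} (hw : w ∈ gen σ x {2, 4}) :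
    ⁅u, u'⁆ * w = w * ⁅u, u'⁆ := by
  have key : ∀ w ∈ gen σ x {2, 4}, u * u' * w * (u * u')⁻¹ = u' * u * w * (u' * u)⁻¹ := by
    intro w hw
    obtain ⟨s, t, hs, ht, rfl⟩ := (mem_W h).1 hw
    obtain ⟨a, b, c, d, e, f, hb, hd, hf, rfl⟩ := h.mem_UU.1 hu
    obtain ⟨a', b', c', d', e', f', hb', hd', hf', rfl⟩ := h.mem_UU.1 hu'
    have e1 : ∀ p r v : G, p * r * v * (p * r)⁻¹ = p * (r * v * r⁻¹) * p⁻¹ := fun p r v => by group
    rw [e1, e1 (uu x a' b' c' d' e' f'), conj_W h hb' hd' hf' hs ht, conj_W h hb hd hf hs ht, conj_W h hb hd hf hs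
      (by rw [map_add, map_mul, hf', hs, ht]), conj_W h hb' hd' hf' hs (by rw [map_add, map_mul, hf, hs, ht])]
    congr 2
    ring
  have hw' : (u' * u)⁻¹ * w * (u' * u) ∈ gen σ x {2, 4} := by
    have h1 : (u' * u)⁻¹ ∈ UU σ x := inv_mem (mul_mem hu' hu)
    have h2 := U_W h h1 hw
    rwa [inv_inv] at h2
  have h1 := key _ hw'
  rw [commutatorElement_def]
  have h2 : u * u' * ((u' * u)⁻¹ * w * (u' * u)) * (u * u')⁻¹ = w := by
    rw [h1]; group
  calc u * u' * u⁻¹ * u'⁻¹ * w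
      = u * u' * ((u' * u)⁻¹ * w * (u' * u)) * (u * u')⁻¹ * (u * u' * u⁻¹ * u'⁻¹) := by group
    _ = w * (u * u' * u⁻¹ * u'⁻¹) := by rw [h2]

/-- every element of `W#` is conjugate to `x 4 1` under `Dsh`. -/
theorem W_to_one {w : G} (hw : w ∈ gen σ x {2, 4}) (hw1 : w ≠ 1) : ∃ d ∈ Dsh σ x, d * w * d⁻¹ = x 4 1 := by
  have o : σ (1 : E) = 1 := map_one σ
  have z : σ (0 : E) = 0 := map_zero σ
  have step : ∀ t, σ t = t → t ≠ 0 → ∃ d ∈ Dsh σ x, d * x 4 t * d⁻¹ = x 4 1 := by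
    intro t ht ht0
    have hti : σ t⁻¹ = t⁻¹ := by rw [map_inv₀, ht]
    refine ⟨hh x 6 t⁻¹, hh6_mem_Dsh h hti, ?_⟩
    rw [h.tor6 _ (inv_ne_zero ht0) hti 4 t (ok_of_fix 4 ht)]
    have : chL ((4 : ZMod 12) - 6) t⁻¹ = t⁻¹ := rfl
    rw [this, inv_mul_cancel₀ ht0]
  have hnn : nn x 6 ∈ Dsh σ x := by
    have h6 : ∀ a, σ a = a → x 6 a ∈ Dsh σ x := fun a ha => x_mem_Dsh (by simp) ha
    have h0 : ∀ a, σ a = a → x (6 + 6) a ∈ Dsh σ x := fun a ha => by
      have : (6 : ZMod 12) + 6 = 0 := by decide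
      rw [this]; exact x_mem_Dsh (by simp) ha
    unfold nn
    exact mul_mem (mul_mem (h6 1 o) (h0 1 o)) (h6 1 o)
  obtain ⟨b, d, hb, hd, rfl⟩ := (mem_W h).1 hw
  by_cases hb0 : b = 0
  · subst hb0
    rw [h.x_zero, one_mul] at hw1 ⊢
    exact step d hd (by rintro rfl; exact hw1 (h.x_zero 4))
  · obtain ⟨g, hg, e⟩ := step b hb hb0
    have hdb : σ (d / b) = d / b := by rw [map_div₀, hd, hb]
    have e1 : x 6 (d / b) * (x 2 b * x 4 d) * (x 6 (d / b))⁻¹ = x 2 b := by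
      have e2 := conj_W h (a := 0) (b := 0) (c := 0) (d := 0) (e := 0) z z hdb hb hd
      rw [h.uq, h.q6] at e2
      rw [e2, div_mul_cancel₀ _ hb0, h.add_self, h.x_zero, mul_one]
    have e3 := h.refl6 2 b (ok_of_fix 2 hb)
    rw [show (6 : ZMod 12) - 2 = 4 by decide] at e3
    refine ⟨g * (nn x 6 * x 6 (d / b)), mul_mem hg (mul_mem hnn (x_mem_Dsh (by simp) hdb)), ?_⟩
    calc g * (nn x 6 * x 6 (d / b)) * (x 2 b * x 4 d) * (g * (nn x 6 * x 6 (d / b)))⁻¹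
        = g * (nn x 6 * (x 6 (d / b) * (x 2 b * x 4 d) * (x 6 (d / b))⁻¹) * (nn x 6)⁻¹) * g⁻¹ := by group
      _ = x 4 1 := by rw [e1, e3, e]

theorem card_W [Finite E] : Nat.card {a : E // σ a = a} ^ 2 ≤ Nat.card (gen σ x ({2, 4} : Set (ZMod 12))) := by
  have hW : Finite (gen σ x ({2, 4} : Set (ZMod 12))) := by
    have h1 : Set.Finite {g : G | g ∈ gen σ x ({2, 4} : Set (ZMod 12))} := by
      refine Set.Finite.subset (Set.finite_range fun p : E × E => x 2 p.1 * x 4 p.2) ?_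
      intro g hg
      obtain ⟨b, d, -, -, rfl⟩ := (mem_W h).1 hg
      exact ⟨(b, d), rfl⟩
    exact h1.to_subtype
  rw [pow_two, ← Nat.card_prod]
  refine Nat.card_le_card_of_injective (fun p : {a : E // σ a = a} × {a : E // σ a = a} =>
    (⟨x 2 p.1.1 * x 4 p.2.1, (mem_W h).2 ⟨_, _, p.1.2, p.2.2, rfl⟩⟩ : gen σ x ({2, 4} : Set (ZMod 12)))) ?_
  rintro ⟨b, d⟩ ⟨b', d'⟩ e
  have e1 : x 2 b.1 * x 4 d.1 = x 2 b'.1 * x 4 d'.1 := congrArg Subtype.val e
  obtain ⟨h1, h2⟩ := W_inj h b.2 d.2 b'.2 d'.2 e1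
  exact Prod.ext (Subtype.ext h1) (Subtype.ext h2)

/-- **The facts on short involutions.** -/
theorem shortF [Finite E] [Finite G] {s : E} (hs : s ≠ 0) (hs1 : s ≠ 1) (hsf : σ s = s) :
    ShortF (AA σ x) (gen σ x {4}) (x 3 1) (gen σ x {2, 4}) (Ysh σ x) (Dsh σ x) where
  a_A := x_mem_AA (ok_one σ 3)
  W_sq := by
    intro w hw
    obtain ⟨b, d, hb, hd, rfl⟩ := (mem_W h).1 hw
    rw [W_prod h hb hd hb hd, h.add_self, h.add_self, h.x_zero, h.x_zero, one_mul]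
  W_comm := by
    intro w hw w' hw'
    obtain ⟨b, d, hb, hd, rfl⟩ := (mem_W h).1 hw
    obtain ⟨b', d', hb', hd', rfl⟩ := (mem_W h).1 hw'
    rw [W_prod h hb hd hb' hd', W_prod h hb' hd' hb hd, add_comm b, add_comm d]
  W_long := by
    intro w hw hw1
    obtain ⟨d, hd, e⟩ := W_to_one h hw hw1
    exact ⟨d, Dsh_AA h hd, by rw [e]; exact x_mem_gen (Set.mem_singleton _) (ok_one σ 4)⟩
  W_conj := by
    intro w hw
    obtain ⟨b, d, hb, hd, rfl⟩ := (mem_W h).1 hw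
    refine ⟨x 1 b * x 5 d, mul_mem (x_mem_AA (ok1 b)) (x_mem_AA (ok5 d)), ?_⟩
    have e1 := h.c35 1 d
    rw [h.trc_one_right hd] at e1
    have e2 := h.c13 b 1
    rw [trc_fix_one h hb] at e2
    have e3 := h.s14 b hd
    have e4 : x 5 d * x 3 1 * (x 5 d)⁻¹ = x 4 d * x 3 1 := by
      have : x 5 d * x 3 1 = x 4 d * (x 3 1 * x 5 d) := by
        rw [e1]
        calc x 5 d * x 3 1 = (x 4 d * x 4 d) * x 5 d * x 3 1 := by rw [h.x_sq (ok_of_fix 4 hd), one_mul]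
          _ = _ := by group
      rw [this]; group
    have e5 : x 1 b * (x 5 d * x 3 1 * (x 5 d)⁻¹) * (x 1 b)⁻¹ = x 4 d * (x 2 b * x 3 1) := by
      rw [e4]
      calc x 1 b * (x 4 d * x 3 1) * (x 1 b)⁻¹ = (x 1 b * x 4 d) * x 3 1 * (x 1 b)⁻¹ := by group
        _ = x 4 d * (x 1 b * x 3 1) * (x 1 b)⁻¹ := by rw [e3]; group
        _ = x 4 d * (x 2 b * x 3 1) := by rw [e2]; group
    calc x 1 b * x 5 d * x 3 1 * (x 1 b * x 5 d)⁻¹ = x 1 b * (x 5 d * x 3 1 * (x 5 d)⁻¹) * (x 1 b)⁻¹ := by group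
      _ = x 4 d * (x 2 b * x 3 1) := e5
      _ = x 4 d * (x 3 1 * x 2 b) := by rw [h.s23 hb]
      _ = x 3 1 * x 4 d * x 2 b := by rw [h.s34 1 hd]; group
      _ = x 3 1 * (x 4 d * x 2 b) := by group
      _ = x 3 1 * (x 2 b * x 4 d) := by rw [h.s24 hb hd]
  W_ne := by
    have o : σ (1 : E) = 1 := map_one σ
    have z : σ (0 : E) = 0 := map_zero σ
    refine ⟨x 2 1, x_mem_gen (Set.mem_insert _ _) (ok_one σ 2), x 4 1,
      x_mem_gen (Set.mem_insert_of_mem _ (Set.mem_singleton _)) (ok_one σ 4), ?_, ?_, ?_⟩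
    · intro e
      exact one_ne_zero (h.inj 2 1 (ok_one σ 2) e)
    · intro e
      exact one_ne_zero (h.inj 4 1 (ok_one σ 4) e)
    · intro e
      have e1 : x 2 1 * x 4 0 = x 2 0 * x 4 1 := by rw [h.x_zero, h.x_zero, mul_one, one_mul, e]
      exact one_ne_zero (W_inj h o z z o e1).1
  D_P2 := ⟨Dsh_perfect h hs hs1 hsf, Dsh_two h⟩
  D_A := Dsh_AA h
  D_a := fun d hd => Dsh_comm h hd
  W_D := gen_le (by
    rintro l (rfl | hl) a ha
    · exact x_mem_Dsh (by simp) (ha (by decide))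
    · rw [Set.mem_singleton_iff] at hl
      subst hl
      exact x_mem_Dsh (by simp) (ha (by decide)))
  Y_two := h.isPGroup_U.to_le (inf_le_left.trans (gen_mono (arc_mono (by norm_num))))
  trans := by
    intro w hw w' hw' hw1 hw1'
    obtain ⟨d, hd, e⟩ := W_to_one h hw hw1
    obtain ⟨d', hd', e'⟩ := W_to_one h hw' hw1'
    refine ⟨d'⁻¹ * d, mul_mem (inv_mem hd') hd, ?_⟩
    calc d'⁻¹ * d * w * (d'⁻¹ * d)⁻¹ = d'⁻¹ * (d * w * d⁻¹) * d' := by group
      _ = d'⁻¹ * (d' * w' * d'⁻¹) * d' := by rw [e, e']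
      _ = w' := by group
  W_norm := fun c hc hca w hw => cent_W h hc hca hw
  Y_norm := fun c hc hca y hy => Ysh_norm h hc hca hy
  two := by
    refine h.isPGroup_U.to_le (fun c hc => ?_)
    have h56 : gen σ x (arc 1 5) ≤ UU σ x := gen_mono (arc_mono (by norm_num))
    apply h56
    obtain ⟨⟨h1, h2⟩, h3⟩ := hc
    refine mem_Q2_of_cent h h1 (Subgroup.mem_centralizer_singleton_iff.mp h2) fun w hw => ?_
    exact (Subgroup.mem_centralizer_iff.mp h3 w hw).symm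
  small := by
    obtain ⟨n, hn, hc⟩ := h.exists_card_fix
    have hW := card_W h
    rw [hc] at hW
    have hq : 2 ≤ 2 ^ n := by
      calc 2 = 2 ^ 1 := (pow_one 2).symm
        _ ≤ 2 ^ n := Nat.pow_le_pow_right (by norm_num) hn
    set K := AA σ x ⊓ Subgroup.centralizer ({x 3 1} : Set G) ⊓ Subgroup.centralizer (gen σ x {2, 4} : Set G) ⊓
      Subgroup.centralizer ((Ysh σ x ⊓ Dsh σ x : Subgroup G) : Set G) with hK
    have h1 : Nat.card K ≤ (2 ^ n) ^ 3 := by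
      rw [← hc, pow_succ, pow_two, ← Nat.card_prod, ← Nat.card_prod]
      have h2 : ∀ k : K, ∃ p : ({a : E // σ a = a} × {a : E // σ a = a}) × {a : E // σ a = a},
          x 2 p.1.1.1 * x 3 p.1.2.1 * x 4 p.2.1 = (k : G) := by
        rintro ⟨c, ⟨⟨h1, h2⟩, h3⟩, h4⟩
        obtain ⟨b, e, d, hb, he, hd, hce⟩ := small_form h h1 (Subgroup.mem_centralizer_singleton_iff.mp h2)
          (fun w hw => (Subgroup.mem_centralizer_iff.mp h3 w hw).symm)
          (fun y hy => (Subgroup.mem_centralizer_iff.mp h4 y hy).symm)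
        exact ⟨((⟨b, hb⟩, ⟨e, he⟩), ⟨d, hd⟩), hce.symm⟩
      choose f hf using h2
      refine Nat.card_le_card_of_injective f ?_
      intro k k' e
      apply Subtype.ext
      rw [← hf k, ← hf k', e]
    calc Nat.card K ≤ (2 ^ n) ^ 3 := h1
      _ < (2 ^ n) ^ 2 * (2 ^ n) ^ 2 := by
        rw [← pow_add]
        exact Nat.pow_lt_pow_right (by omega) (by norm_num)
      _ ≤ _ := Nat.mul_le_mul hW hW
  comm := by
    intro P hP hPA hPa p hp r hr w hw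
    -- the normaliser of `W` in `A`
    have hS : UU σ x ≤ AA σ x ⊓ Subgroup.normalizer ((gen σ x {2, 4} : Subgroup G) : Set G) := by
      intro u hu
      refine Subgroup.mem_inf.mpr ⟨gen_le_AA _ hu, ?_⟩
      rw [Subgroup.mem_normalizer_iff]
      intro v
      refine ⟨fun hv => U_W h hu hv, fun hv => ?_⟩
      have := U_W h (inv_mem hu) hv
      have e : u⁻¹ * (u * v * u⁻¹) * u⁻¹⁻¹ = v := by group
      rwa [e] at this
    have hPS : P ≤ AA σ x ⊓ Subgroup.normalizer ((gen σ x {2, 4} : Subgroup G) : Set G) := by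
      intro u hu
      refine Subgroup.mem_inf.mpr ⟨hPA hu, ?_⟩
      rw [Subgroup.mem_normalizer_iff]
      intro v
      refine ⟨fun hv => cent_W h (hPA hu) (hPa u hu) hv, fun hv => ?_⟩
      have := cent_W h (hPA (inv_mem hu)) (hPa _ (inv_mem hu)) hv
      have e : u⁻¹ * (u * v * u⁻¹) * u⁻¹⁻¹ = v := by group
      rwa [e] at this
    obtain ⟨g, hg, hgP⟩ := h.sylow_conj hS inf_le_left hP hPS
    have hgw : g * w * g⁻¹ ∈ gen σ x {2, 4} :=
      (Subgroup.mem_normalizer_iff.mp (Subgroup.mem_inf.mp hg).2 w).mp hw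
    have h1 := comm_U_W h (hgP p hp) (hgP r hr) hgw
    have e1 : ⁅g * p * g⁻¹, g * r * g⁻¹⁆ = g * ⁅p, r⁆ * g⁻¹ := by
      simp only [commutatorElement_def]; group
    rw [e1] at h1
    calc ⁅p, r⁆ * w = g⁻¹ * (g * ⁅p, r⁆ * g⁻¹ * (g * w * g⁻¹)) * g := by group
      _ = g⁻¹ * (g * w * g⁻¹ * (g * ⁅p, r⁆ * g⁻¹)) * g := by rw [h1]
      _ = w * ⁅p, r⁆ := by group

/-- **The involutions of `A`.** -/
theorem cls [Finite E] [Finite G] {u : G} (hu : u ∈ AA σ x) (hu2 : u * u = 1) (hu1 : u ≠ 1) :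
    ∃ c ∈ AA σ x, c * u * c⁻¹ ∈ gen σ x {4} ∨ c * u * c⁻¹ = x 3 1 := by
  have h2 : IsPGroup 2 (Subgroup.zpowers u) := by
    rintro ⟨y, k, rfl⟩
    refine ⟨1, ?_⟩
    apply Subtype.ext
    simp only [pow_one]
    change (u ^ k) ^ 2 = 1
    rw [← zpow_natCast, ← zpow_mul, mul_comm, zpow_mul]
    have : u ^ ((2 : ℕ) : ℤ) = 1 := by rw [zpow_natCast, pow_two, hu2]
    rw [this, one_zpow]
  obtain ⟨g, hg, hgP⟩ := h.sylow_conj (S := AA σ x) (gen_le_AA _) le_rfl h2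
    ((Subgroup.zpowers_le).mpr hu)
  have h3 := hgP u (Subgroup.mem_zpowers u)
  have h4 : g * u * g⁻¹ * (g * u * g⁻¹) = 1 := by
    calc g * u * g⁻¹ * (g * u * g⁻¹) = g * (u * u) * g⁻¹ := by group
      _ = 1 := by rw [hu2]; group
  have h5 : g * u * g⁻¹ ≠ 1 := by
    intro h0
    apply hu1
    have : u = g⁻¹ * (g * u * g⁻¹) * g := by group
    rw [this, h0]; group
  rcases h.cls_U h3 h4 h5 with ⟨a, ha, e⟩ | ⟨a, ha, e⟩
  · refine ⟨a * g, mul_mem ha hg, Or.inl ?_⟩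
    have : a * g * u * (a * g)⁻¹ = a * (g * u * g⁻¹) * a⁻¹ := by group
    rw [this, e]
    exact x_mem_gen (Set.mem_singleton _) (ok_one σ 4)
  · refine ⟨a * g, mul_mem ha hg, Or.inr ?_⟩
    have : a * g * u * (a * g)⁻¹ = a * (g * u * g⁻¹) * a⁻¹ := by group
    rw [this, e]

end

end Cfsg.Agent.HexStart
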