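import Cfsg.Agent.HexStart.Short

/-!
# S1778, types `G2(q)` and `3D4(q)`, `q ≥ 4`: the start (outer 2-elements included)

`Base.start`: from the facts `Base`, `ShortF`, `OutF` and the classes of involutions, `|R| = 2` and there is a mover.
-/

set_option autoImplicit false
set_option linter.unusedSectionVars false

namespace Cfsg.Agent.HexStart

open Cfsg Subgroup Cfsg.Agent.SignalizersComponents Cfsg.Agent.StdEven.Syl Cfsg.Agent.StdEven.Loc
open Cfsg.Agent.StdEven.Perf Cfsg.Agent.StdL2.Setup Cfsg.Agent.Schreier.Basic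
open scoped commutatorElement

variable {G : Type*} [Group G]

namespace Base

variable [Finite G] {L A : Subgroup G} {t : G} {T P1 Z : Subgroup G} (B : Base L A t T P1 Z)
  {a : G} {W Y D : Subgroup G} (F : ShortF A Z a W Y D)
include B F

/-- **(c)** `t` is not conjugate to `a` or `t a`, `a` a short involution. -/
theorem not_conj_short (hO : OutW A t T) (hcls : ∀ u ∈ A, u * u = 1 → u ≠ 1 → ∃ c ∈ A, c * u * c⁻¹ ∈ Z ∨ c * u * c⁻¹ = a)
    (hZ : ∀ g z : G, z ∈ Z → z ≠ 1 → g * t * g⁻¹ ≠ t * z) {g : G}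
    (hg : g * t * g⁻¹ = a ∨ g * t * g⁻¹ = t * a) : False := by
  have hat : a * t = t * a := B.comm_A F.a_A
  -- `f = g⁻¹ t g` commutes with `t`; move it into `T`
  have hct : g * t * g⁻¹ * t = t * (g * t * g⁻¹) := by
    rcases hg with h | h
    · rw [h, hat]
    · rw [h]
      calc t * a * t = t * (a * t) := by group
        _ = t * (t * a) := by rw [hat]
  have hft : g⁻¹ * t * g * t = t * (g⁻¹ * t * g) := by
    calc g⁻¹ * t * g * t = g⁻¹ * (t * (g * t * g⁻¹)) * g := by group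
      _ = g⁻¹ * (g * t * g⁻¹ * t) * g := by rw [hct]
      _ = t * (g⁻¹ * t * g) := by group
  have hf2 : IsPGroup 2 (zpowers (g⁻¹ * t * g)) := by
    have h1 : (zpowers t).map (MulAut.conj g⁻¹).toMonoidHom = zpowers (g⁻¹ * t * g) := by
      rw [MonoidHom.map_zpowers]
      congr 1
      show g⁻¹ * t * g⁻¹⁻¹ = g⁻¹ * t * g
      rw [inv_inv]
    rw [← h1]
    exact isPGroup_map (isPGroup_zpowers B.conf.ht) g⁻¹
  obtain ⟨c, hc, hcT⟩ := (B.isT.syl_cent B.conf.std B.conf.ht B.conf.htA).exists_conj hf2 (by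
    rw [zpowers_le, mem_centralizer_singleton_iff]; exact hft)
  rw [mem_centralizer_singleton_iff] at hc
  have hfT := hcT _ (mem_zpowers _)
  have hc' : c⁻¹ * t = t * c⁻¹ := by
    calc c⁻¹ * t = c⁻¹ * (t * c) * c⁻¹ := by group
      _ = c⁻¹ * (c * t) * c⁻¹ := by rw [hc]
      _ = t * c⁻¹ := by group
  -- replace `g`
  set k := g * c⁻¹ with hk
  set f := c * (g⁻¹ * t * g) * c⁻¹ with hf
  have hkt : k * t * k⁻¹ = g * t * g⁻¹ := by
    calc k * t * k⁻¹ = g * (c⁻¹ * t) * c * g⁻¹ := by rw [hk]; group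
      _ = g * t * g⁻¹ := by rw [hc']; group
  have hkf : k * f * k⁻¹ = t := by rw [hk, hf]; group
  have hff : f * f = 1 := by
    calc f * f = c * g⁻¹ * (t * t) * g * c⁻¹ := by rw [hf]; group
      _ = 1 := by rw [B.tt]; group
  have hf1 : f ≠ 1 := by
    intro h
    apply B.t1
    rw [← hkf, h]; group
  have htf : f ≠ t := by
    intro h
    rw [h, hkt] at hkf
    rcases hg with h1 | h1
    · rw [h1] at hkf
      apply B.t_not_mem
      rw [← hkf]; exact F.a_A
    · rw [h1, mul_eq_left] at hkf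
      obtain ⟨w, hw, -, -, hw1, -, -⟩ := F.W_ne
      obtain ⟨y, hy, hya⟩ := F.W_conj w hw
      rw [hkf, one_mul, mul_one, mul_inv_cancel] at hya
      exact hw1 hya.symm
  -- the condition on `t' = g t g⁻¹`
  have ht' : ∀ x : G, x * t = t * x → (x * (g * t * g⁻¹) = g * t * g⁻¹ * x ↔ x * a = a * x) := by
    intro x hx
    rcases hg with h | h
    · rw [h]
    · rw [h]
      constructor
      · intro h1
        have h2 : t * (x * a) = t * (a * x) := by
          calc t * (x * a) = x * (t * a) := by rw [← mul_assoc, ← hx, mul_assoc]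
            _ = t * (a * x) := by rw [h1]; group
        exact mul_left_cancel h2
      · intro h1
        calc x * (t * a) = (x * t) * a := by group
          _ = t * (x * a) := by rw [hx]; group
          _ = t * a * x := by rw [h1]; group
  by_cases hin : ∃ b ∈ A, b⁻¹ * f ∈ centralizer (A : Set G)
  · obtain ⟨b, hb, hbf⟩ := hin
    obtain ⟨v, hvT, hvA, r, hrT, hrK, hfe⟩ := B.isT.exists_of_inner hfT hb hbf
    have hrv : r * v = v * r := B.comm_K hvA hrK
    have h1 : (v * v) * (r * r) = 1 := by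
      rw [← hff, hfe]
      calc v * v * (r * r) = v * (v * r) * r := by group
        _ = v * (r * v) * r := by rw [hrv]
        _ = v * r * (v * r) := by group
    have h2 : v * v = 1 := by
      apply B.isT.eq_one_of_mem B.odd (mul_mem hvT hvT) (mul_mem hvA hvA)
      rw [eq_inv_of_mul_eq_one_left h1]
      exact inv_mem (mul_mem hrK hrK)
    rw [h2, one_mul] at h1
    have hfv : f = v ∨ f = t * v := by
      rcases B.isT.uniq r hrT hrK h1 with h | h
      · left; rw [hfe, h, mul_one]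
      · right; rw [hfe, ← hrv, h]
    have hv1 : v ≠ 1 := by
      intro h
      rw [h, mul_one] at hfv
      exact hfv.elim hf1 htf
    obtain ⟨d, hd, hd'⟩ := hcls v hvA h2 hv1
    rcases hd' with h | h
    · exact B.short_long F ht' hkt hkf hfv hd h hv1
    · exact B.short_short F hZ ht' hkt hkf hfv hd h
  · obtain ⟨E, hE, hEA, hEf, -, P, hPE, hP, p, hp, r, hr, hEN⟩ :=
      hO f hfT hff hin ⟨c * g⁻¹, by rw [hf]; group⟩
    exact B.short_outer F ht' hkt hkf hE hEA hEf hPE hP hp hr hEN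

/-- `T` is not a Sylow 2-subgroup of `G`. -/
theorem not_syl (hO : OutW A t T)
    (hcls : ∀ u ∈ A, u * u = 1 → u ≠ 1 → ∃ c ∈ A, c * u * c⁻¹ ∈ Z ∨ c * u * c⁻¹ = a) : ¬ IsSyl T ⊤ := by
  intro hsyl
  have hZ : ∀ g z : G, z ∈ Z → z ≠ 1 → g * t * g⁻¹ ≠ t * z := fun g z hz hz1 h => B.not_conj_tZ hsyl hz hz1 h
  obtain ⟨w, hw, -, -, hw1, -, -⟩ := F.W_ne
  obtain ⟨v, hvT, hvA, hvv, hv1, hconj⟩ := StdEven.StepFour.exists_inner B.conf B.odd B.sch B.isT hO.outer
    (F.D_A (F.W_D hw)) hw1 (F.W_sq w hw) hsyl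
  obtain ⟨c, hc, hcv⟩ := hcls v hvA hvv hv1
  have hct : c * t = t * c := B.comm_A hc
  have h1 : ∀ g : G, g * t * g⁻¹ = v → c * g * t * (c * g)⁻¹ = c * v * c⁻¹ := by
    intro g hg
    rw [← hg]; group
  have h2 : ∀ g : G, g * t * g⁻¹ = t * v → c * g * t * (c * g)⁻¹ = t * (c * v * c⁻¹) := by
    intro g hg
    calc c * g * t * (c * g)⁻¹ = c * (g * t * g⁻¹) * c⁻¹ := by group
      _ = (c * t) * v * c⁻¹ := by rw [hg]; group
      _ = t * (c * v * c⁻¹) := by rw [hct]; group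
  rcases hcv with h | h
  · rcases hconj with ⟨g, hg⟩ | ⟨g, hg⟩
    · exact B.not_conj_Z (g := c * g) (by rw [h1 g hg]; exact h)
    · refine hZ (c * g) _ h (fun h3 => hv1 ?_) (h2 g hg)
      have : v = c⁻¹ * (c * v * c⁻¹) * c := by group
      rw [this, h3]; group
  · rcases hconj with ⟨g, hg⟩ | ⟨g, hg⟩
    · exact B.not_conj_short F hO hcls hZ (g := c * g) (Or.inl (by rw [h1 g hg, h]))
    · exact B.not_conj_short F hO hcls hZ (g := c * g) (Or.inr (by rw [h2 g hg, h]))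

/-- **The start**, from `OutW`. -/
theorem startW (hO : OutW A t T)
    (hcls : ∀ u ∈ A, u * u = 1 → u ≠ 1 → ∃ c ∈ A, c * u * c⁻¹ ∈ Z ∨ c * u * c⁻¹ = a) :
    ¬ IsSyl T ⊤ ∧ (∀ r ∈ T, r ∈ centralizer (A : Set G) → r = 1 ∨ r = t) ∧
      ∃ g ∈ normalizer (T : Set G), (∃ k : ℕ, g ^ 2 ^ k = 1) ∧ g ∈ normalizer (P1 : Set G) ∧
        ∃ z ∈ Z, z ≠ 1 ∧ (∀ x ∈ T, x * z = z * x) ∧ g * t * g⁻¹ = t * z ∧ g * z * g⁻¹ = z := by
  have h := B.not_syl F hO hcls
  exact ⟨h, B.exists_mover h⟩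

/-- **The start.** -/
theorem start (hO : OutF A t T)
    (hcls : ∀ u ∈ A, u * u = 1 → u ≠ 1 → ∃ c ∈ A, c * u * c⁻¹ ∈ Z ∨ c * u * c⁻¹ = a) :
    ¬ IsSyl T ⊤ ∧ (∀ r ∈ T, r ∈ centralizer (A : Set G) → r = 1 ∨ r = t) ∧
      ∃ g ∈ normalizer (T : Set G), (∃ k : ℕ, g ^ 2 ^ k = 1) ∧ g ∈ normalizer (P1 : Set G) ∧
        ∃ z ∈ Z, z ≠ 1 ∧ (∀ x ∈ T, x * z = z * x) ∧ g * t * g⁻¹ = t * z ∧ g * z * g⁻¹ = z :=
  B.startW F hO.weak hcls

end Base

end Cfsg.Agent.HexStart
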