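import Cfsg.Agent.HexStart.HexPure
import Cfsg.Agent.HexStart.Main
import Cfsg.Agent.HexToX.ToX

/-!
# S1778, types `G2(q)`, `3D4(q)`, `q ≥ 4`: the start from `HexTwo` and the facts on outer involutions
-/

set_option autoImplicit false
set_option linter.unusedSectionVars false

namespace Cfsg.Agent.HexStart

open Cfsg Subgroup Cfsg.Agent.SplitTwo Cfsg.Agent.StdRank2.Hex Cfsg.Agent.StdRank2.Hex.HexTwo
open Cfsg.Agent.StdEven.Syl Cfsg.Agent.StdEven.Loc Cfsg.Agent.StdL2.Setup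
open Cfsg.Agent.StdEven.CoreQuot

section

variable {E : Type*} [Field E] {σ : E ≃+* E} {G : Type*} [Group G] {x : ZMod 12 → E → G}

theorem notTwo_of {ω : E} (hω : σ ω = ω) (h0 : ω ≠ 0) (h1 : ω ≠ 1) : NotTwo σ :=
  Or.inl ⟨ω, hω, fun e => h1 (by
    rw [pow_two] at e
    have : ω * ω = ω * 1 := by rw [e, mul_one]
    exact mul_left_cancel₀ h0 this)⟩

theorem odd_center [Finite E] [Finite G] (h : HexTwo σ x) : Odd (Nat.card (center ↥(AA σ x))) := by
  have h1 : center ↥(AA σ x) = ⊥ := by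
    rw [eq_bot_iff]
    rintro ⟨z, hz⟩ hc
    rw [mem_bot]
    apply Subtype.ext
    change z = 1
    refine center_eq_one h hz fun k a ha => ?_
    have h2 := congrArg Subtype.val (mem_center_iff.mp hc ⟨x k a, x_mem_AA ha⟩)
    have h3 : x k a * z = z * x k a := h2
    rw [← h3]; group
  rw [h1, card_bot]
  exact odd_one

/-- **The base of the start.** -/
theorem base_hex [Finite E] [Finite G] {L : Subgroup G} {t : G} {T : Subgroup G} (h : HexTwo σ x)
    (C : Conf L (AA σ x) t) {ω : E} (hω : σ ω = ω) (h0 : ω ≠ 0) (h1 : ω ≠ 1) (hT : IsT (AA σ x) t T)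
    (hTA : T ⊓ AA σ x = UU σ x) : Base L (AA σ x) t T (gen σ x (arc 1 7)) (gen σ x {4}) where
  conf := C
  odd := odd_center h
  sch := sch_AA h (notTwo_of hω h0 h1)
  isT := hT
  long := by
    rw [hTA]
    exact longF h h0 h1
  cU := by
    intro y hy hc
    refine cU h (notTwo_of hω h0 h1) (fun v hv => ?_) fun u hu => ?_
    · exact (mem_normalizer_iff.mp (hT.norm hy) v).mp hv
    · rw [← hTA] at hu
      exact hc u hu.1 hu.2

/-- **The start**, `T` adapted to the frame. -/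
theorem start_hex [Finite E] [Finite G] {L : Subgroup G} {t : G} {T : Subgroup G} (h : HexTwo σ x)
    (C : Conf L (AA σ x) t) {ω : E} (hω : σ ω = ω) (h0 : ω ≠ 0) (h1 : ω ≠ 1) (hT : IsT (AA σ x) t T)
    (hTA : T ⊓ AA σ x = UU σ x) (hO : OutW (AA σ x) t T) : ¬ IsSyl T ⊤ ∧ Hyp (AA σ x) t T ∧
      ∃ g ∈ normalizer (T : Set G), (∃ k : ℕ, g ^ 2 ^ k = 1) ∧ g ∈ normalizer (gen σ x (arc 1 7) : Set G) ∧
        ∃ z ∈ gen σ x {4}, z ≠ 1 ∧ (∀ y ∈ T, y * z = z * y) ∧ g * t * g⁻¹ = t * z ∧ g * z * g⁻¹ = z := by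
  obtain ⟨h2, h3, h4⟩ := (base_hex h C hω h0 h1 hT hTA).startW (shortF h h0 h1 hω) hO fun u hu hu2 hu1 =>
    cls h hu hu2 hu1
  exact ⟨h2, ⟨C.std, C.ht, C.htA, odd_center h, hT, h3⟩, h4⟩

end

end Cfsg.Agent.HexStart
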