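import Cfsg.Agent.HexStart.Defs

/-!
# S1778, types `G2(q)` and `3D4(q)`, `q ≥ 4`: `|R| = 2` and the mover, when `T` is not a Sylow 2-subgroup of `G`
-/

set_option autoImplicit false
set_option linter.unusedSectionVars false

namespace Cfsg.Agent.HexStart

open Cfsg Subgroup Cfsg.Agent.SignalizersComponents Cfsg.Agent.StdEven.Syl Cfsg.Agent.StdEven.Loc
open Cfsg.Agent.StdEven.Perf Cfsg.Agent.StdL2.Setup Cfsg.Agent.Schreier.Basic
open scoped commutatorElement

variable {G : Type*} [Group G]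

/-- Everything about `C(t)` used for the start. -/
structure Base [Finite G] (L A : Subgroup G) (t : G) (T P1 Z : Subgroup G) : Prop where
  conf : Conf L A t
  odd : Odd (Nat.card (center ↥A))
  sch : Sch ↥A
  isT : IsT A t T
  long : LongF A (T ⊓ A) P1 Z
  /-- the elements of `T` centralising `T ⊓ A` induce inner automorphisms -/
  cU : ∀ y ∈ T, (∀ u ∈ T, u ∈ A → y * u = u * y) → ∃ a ∈ A, a⁻¹ * y ∈ centralizer (A : Set G)

theorem conj_eq_iff {g x y : G} : g * x * g⁻¹ = y ↔ g * x = y * g := mul_inv_eq_iff_eq_mul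

theorem conj_swap {g x y : G} (h : g * x * g⁻¹ = y) : g⁻¹ * y * g = x := by rw [← h]; group

/-- If `x` commutes with `y` then `g x g⁻¹` commutes with `g y g⁻¹`. -/
theorem comm_conj {g x y : G} (h : x * y = y * x) : g * x * g⁻¹ * (g * y * g⁻¹) = g * y * g⁻¹ * (g * x * g⁻¹) := by
  calc g * x * g⁻¹ * (g * y * g⁻¹) = g * (x * y) * g⁻¹ := by group
    _ = g * (y * x) * g⁻¹ := by rw [h]
    _ = _ := by group

theorem comm_conj' {g x y z : G} (h : x * y = y * x) (hz : g * y * g⁻¹ = z) : g * x * g⁻¹ * z = z * (g * x * g⁻¹) := by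
  rw [← hz]; exact comm_conj h

namespace Base

variable [Finite G] {L A : Subgroup G} {t : G} {T P1 Z : Subgroup G} (B : Base L A t T P1 Z)
include B

theorem tt : t * t = 1 := StdEven.Loc.tt B.conf.ht

theorem t1 : t ≠ 1 := StdEven.Loc.t_ne B.conf.ht

theorem tinv : t⁻¹ = t := inv_eq_of_mul_eq_one_left B.tt

/-- Perfect subgroups of `C(t)` generated by 2-elements. -/
theorem le_A {D : Subgroup G} (hD : P2 D) (hDt : ∀ x ∈ D, x * t = t * x) : D ≤ A :=
  le_of_perfect B.conf.std B.conf.ht B.conf.htA B.conf.cyc B.sch hD.perf hDt hD.gen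

theorem comm_A {a : G} (ha : a ∈ A) : a * t = t * a := (comm_of_centralizer B.conf.htA ha).symm

theorem comm_K {a : G} (ha : a ∈ A) {r : G} (hr : r ∈ centralizer (A : Set G)) : r * a = a * r :=
  comm_of_centralizer hr ha

theorem t_not_mem : t ∉ A := fun h =>
  B.t1 (B.isT.eq_one_of_mem B.odd B.isT.mem h B.conf.htA)

theorem Z_T {z : G} (hz : z ∈ Z) : z ∈ T := ((B.long.Z_iff z).mp hz).1.1
theorem Z_A {z : G} (hz : z ∈ Z) : z ∈ A := ((B.long.Z_iff z).mp hz).1.2
theorem Z_P1 {z : G} (hz : z ∈ Z) : z ∈ P1 := B.long.U_P1 ((B.long.Z_iff z).mp hz).1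

/-- elements of `T` centralising `T ⊓ A` -/
theorem cent_U {y : G} (hy : y ∈ T) (hyU : ∀ u ∈ T, u ∈ A → y * u = u * y) :
    ∃ z ∈ Z, ∃ r ∈ T, r ∈ centralizer (A : Set G) ∧ y = z * r := by
  obtain ⟨a, ha, hay⟩ := B.cU y hy hyU
  obtain ⟨u, huT, huA, r, hrT, hrK, he⟩ := B.isT.exists_of_inner hy ha hay
  refine ⟨u, (B.long.Z_iff u).mpr ⟨mem_inf.mpr ⟨huT, huA⟩, ?_⟩, r, hrT, hrK, he⟩
  intro v hv
  obtain ⟨hvT, hvA⟩ := mem_inf.mp hv
  have h1 := hyU v hvT hvA
  have h2 := B.comm_K hvA hrK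
  rw [he] at h1
  have h3 : u * v * r = v * u * r := by
    calc u * v * r = u * (v * r) := by group
      _ = u * (r * v) := by rw [h2]
      _ = u * r * v := by group
      _ = v * (u * r) := h1
      _ = v * u * r := by group
  exact mul_right_cancel h3

/-- involutions of `T` centralising `T ⊓ A` -/
theorem cent_U_sq {y : G} (hy : y ∈ T) (hyU : ∀ u ∈ T, u ∈ A → y * u = u * y) (hyy : y * y = 1) :
    y ∈ Z ∨ t * y ∈ Z := by
  obtain ⟨z, hz, r, hr, hrK, he⟩ := B.cent_U hy hyU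
  have h1 := B.comm_K (B.Z_A hz) hrK
  have h2 : r * r = 1 := by
    calc r * r = (z * z) * (r * r) := by rw [B.long.Z_two z hz, one_mul]
      _ = z * (z * r) * r := by group
      _ = z * (r * z) * r := by rw [h1]
      _ = (z * r) * (z * r) := by group
      _ = 1 := by rw [← he, hyy]
  rcases B.isT.uniq r hr hrK h2 with h | h
  · left; rw [he, h, mul_one]; exact hz
  · right
    have h3 : t * y = z := by
      rw [he, h, ← mul_assoc, ← B.comm_A (B.Z_A hz), mul_assoc, B.tt, mul_one]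
    rw [h3]; exact hz

/-- **(b)** `t` is not conjugate to an element of `Z`. -/
theorem not_conj_Z {g : G} (hg : g * t * g⁻¹ ∈ Z) : False := by
  have h1 : P1.map (MulAut.conj g⁻¹).toMonoidHom ≤ A := by
    apply B.le_A (B.long.P1_P2.map g⁻¹)
    rintro _ ⟨p, hp, rfl⟩
    show g⁻¹ * p * g⁻¹⁻¹ * t = t * (g⁻¹ * p * g⁻¹⁻¹)
    apply comm_conj' (B.long.P1_Z p hp _ hg)
    group
  have h2 : g⁻¹ * (g * t * g⁻¹) * g⁻¹⁻¹ ∈ A := h1 ⟨_, B.Z_P1 hg, rfl⟩
  have h3 : g⁻¹ * (g * t * g⁻¹) * g⁻¹⁻¹ = t := by group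
  rw [h3] at h2
  exact B.t_not_mem h2

/-- `P1` is normalised by the elements fixing `⟨t, z⟩` -/
theorem conj_P1 {g z : G} (hz : z ∈ Z) (hz1 : z ≠ 1) (hg : g * t * g⁻¹ = t * z) (hgz : g * z * g⁻¹ = z) :
    ∀ p ∈ P1, g * p * g⁻¹ ∈ P1 := by
  have hD : P2 (P1.map (MulAut.conj g).toMonoidHom) := B.long.P1_P2.map g
  have hz2 := B.long.Z_two z hz
  have key : ∀ x ∈ P1.map (MulAut.conj g).toMonoidHom, x * z = z * x ∧ x * t = t * x := by
    rintro _ ⟨p, hp, rfl⟩
    show g * p * g⁻¹ * z = z * (g * p * g⁻¹) ∧ g * p * g⁻¹ * t = t * (g * p * g⁻¹)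
    have h1 := comm_conj' (B.long.P1_Z p hp z hz) hgz
    have h2 := comm_conj' (B.comm_A (B.long.P1_A hp)) hg
    refine ⟨h1, ?_⟩
    have h3 : t = t * z * z := by rw [mul_assoc, hz2, mul_one]
    calc g * p * g⁻¹ * t = g * p * g⁻¹ * (t * z) * z := by rw [mul_assoc (g * p * g⁻¹), ← h3]
      _ = t * z * (g * p * g⁻¹ * z) := by rw [h2]; group
      _ = t * z * z * (g * p * g⁻¹) := by rw [h1]; group
      _ = t * (g * p * g⁻¹) := by rw [← h3]
  have h1 : P1.map (MulAut.conj g).toMonoidHom ≤ A := B.le_A hD fun x hx => (key x hx).2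
  have h2 : P1.map (MulAut.conj g).toMonoidHom ≤ P1 :=
    hD.mem_of_two fun x hx hk => B.long.P1_max z hz hz1 x (h1 hx) (key x hx).1 hk
  exact fun p hp => h2 ⟨p, hp, rfl⟩

/-- **`|R| = 2` and the mover**, when `T` is not a Sylow 2-subgroup of `G`. -/
theorem exists_mover (hns : ¬ IsSyl T ⊤) :
    (∀ r ∈ T, r ∈ centralizer (A : Set G) → r = 1 ∨ r = t) ∧
      ∃ g ∈ normalizer (T : Set G), (∃ k : ℕ, g ^ 2 ^ k = 1) ∧ g ∈ normalizer (P1 : Set G) ∧
        ∃ z ∈ Z, z ≠ 1 ∧ (∀ x ∈ T, x * z = z * x) ∧ g * t * g⁻¹ = t * z ∧ g * z * g⁻¹ = z := by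
  obtain ⟨X, hX, hTX, hXN⟩ := B.isT.syl.exists_normalizer hns
  -- an element with square in `T`
  obtain ⟨g, hgX, hgT, hgg⟩ : ∃ g ∈ X, g ∉ T ∧ g * g ∈ T := by
    obtain ⟨g, hgX, hgT⟩ := SetLike.exists_of_lt hTX
    obtain ⟨k, hk'⟩ := hX ⟨g, hgX⟩
    have hk : g ^ 2 ^ k = 1 := congrArg Subtype.val hk'
    clear hTX hk'
    induction k generalizing g with
    | zero => exact absurd (by rw [pow_zero, pow_one] at hk; rw [hk]; exact one_mem T) hgT
    | succ k ih =>
      by_cases h : g * g ∈ T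
      · exact ⟨g, hgX, hgT, h⟩
      · exact ih (g * g) (mul_mem hgX hgX) h (by rw [← pow_two, ← pow_mul, ← pow_succ']; exact hk)
  have hgN := hXN hgX
  obtain ⟨k, hk⟩ := hX ⟨g, hgX⟩
  have hk : g ^ 2 ^ k = 1 := congrArg Subtype.val hk
  have hgt : g * t ≠ t * g := by
    intro h
    have h1 : T ⊔ zpowers g = T := by
      apply (B.isT.syl_cent B.conf.std B.conf.ht B.conf.htA).max _
        (hX.to_le (sup_le hTX.le ((zpowers_le).mpr hgX))) _ le_sup_left
      apply sup_le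
      · intro x hx
        rw [mem_centralizer_singleton_iff]
        exact B.isT.cent x hx
      · rw [zpowers_le, mem_centralizer_singleton_iff]
        exact h
    exact hgT (by rw [← h1]; exact (le_sup_right : zpowers g ≤ T ⊔ zpowers g) (mem_zpowers g))
  -- the conjugate of `t`
  set s := g * t * g⁻¹ with hs
  have hsT : s ∈ T := conj_mem_of_mem_normalizer hgN B.isT.mem
  have hss : s * s = 1 := by
    calc s * s = g * (t * t) * g⁻¹ := by rw [hs]; group
      _ = 1 := by rw [B.tt]; group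
  have hsc : ∀ y ∈ T, s * y = y * s := by
    intro y hy
    have h1 : g⁻¹ * y * g ∈ T := conj_inv_mem_of_mem_normalizer hgN hy
    have h2 := B.isT.cent _ h1
    calc s * y = g * (t * (g⁻¹ * y * g)) * g⁻¹ := by rw [hs]; group
      _ = g * (g⁻¹ * y * g * t) * g⁻¹ := by rw [h2]
      _ = y * s := by rw [hs]; group
  have hst : s ≠ t := fun h => hgt (conj_eq_iff.mp (hs.symm.trans h))
  have hZ := (B.cent_U_sq hsT (fun u hu _ => hsc u hu) hss).resolve_left fun h => B.not_conj_Z (g := g) h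
  set z := t * s with hz
  have hsz : s = t * z := by rw [hz, ← mul_assoc, B.tt, one_mul]
  have hz1 : z ≠ 1 := by
    intro h
    rw [h, mul_one] at hsz
    exact hst hsz
  have hzz := B.long.Z_two z hZ
  have hzc : ∀ x ∈ T, x * z = z * x := by
    intro x hx
    calc x * z = (x * t) * s := by rw [hz]; group
      _ = t * (x * s) := by rw [B.isT.cent x hx]; group
      _ = t * s * x := by rw [← hsc x hx]; group
      _ = z * x := by rw [hz]
  have hgz : g * z * g⁻¹ = z := by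
    -- `g g` commutes with `t`
    have h1 : g * g * t = t * (g * g) := B.isT.cent _ hgg
    have h2 : g * s * g⁻¹ = t := by
      calc g * s * g⁻¹ = (g * g * t) * (g * g)⁻¹ := by rw [hs]; group
        _ = t := by rw [h1]; group
    have h3 : s * (g * z * g⁻¹) = t := by
      calc s * (g * z * g⁻¹) = g * (t * z) * g⁻¹ := by rw [hs]; group
        _ = t := by rw [← hsz, h2]
    have h4 : t * (z * (g * z * g⁻¹)) = t * 1 := by
      rw [← mul_assoc, ← hsz, h3, mul_one]
    have h5 := mul_left_cancel h4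
    have h6 : z⁻¹ = z := inv_eq_of_mul_eq_one_left hzz
    have h7 := eq_inv_of_mul_eq_one_right h5
    rw [h7, h6]
  have hgs : g * t * g⁻¹ = t * z := by rw [← hs]; exact hsz
  have hP1 : g ∈ normalizer (P1 : Set G) := mem_normalizer_of_conj_le (B.conj_P1 hZ hz1 hgs hgz)
  refine ⟨?_, g, hgN, ⟨k, hk⟩, hP1, z, hZ, hz1, hzc, hgs, hgz⟩
  -- `|R| = 2`
  intro r hr hrK
  by_contra hcon
  push Not at hcon
  obtain ⟨q, hq, hqK, hqt⟩ : ∃ q ∈ T, q ∈ centralizer (A : Set G) ∧ q * q = t := by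
    obtain ⟨k, hk⟩ := B.isT.syl.two ⟨r, hr⟩
    have hk : r ^ 2 ^ k = 1 := congrArg Subtype.val hk
    obtain ⟨k, hk, hko⟩ := (Nat.dvd_prime_pow Nat.prime_two).mp (orderOf_dvd_of_pow_eq_one hk)
    match k, hko with
    | 0, hko =>
      exfalso
      rw [pow_zero, orderOf_eq_one_iff] at hko
      exact hcon.1 hko
    | 1, hko =>
      exfalso
      rcases B.isT.uniq r hr hrK (by rw [← pow_two, ← pow_one 2, ← hko, pow_orderOf_eq_one]) with h | h
      · exact hcon.1 h
      · exact hcon.2 h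
    | k + 2, hko =>
      refine ⟨r ^ 2 ^ k, pow_mem hr _, pow_mem hrK _, ?_⟩
      have h1 : r ^ 2 ^ k * r ^ 2 ^ k = r ^ 2 ^ (k + 1) := by rw [← pow_add]; congr 1; ring
      rw [h1]
      rcases B.isT.uniq (r ^ 2 ^ (k + 1)) (pow_mem hr _) (pow_mem hrK _) (by
        rw [← pow_add]
        have : 2 ^ (k + 1) + 2 ^ (k + 1) = 2 ^ (k + 2) := by ring
        rw [this, ← hko, pow_orderOf_eq_one]) with h | h
      · exfalso
        have h2 := orderOf_dvd_of_pow_eq_one h
        rw [hko] at h2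
        have h3 := Nat.le_of_dvd (by positivity) h2
        have h4 : 2 ^ (k + 1) < 2 ^ (k + 2) := Nat.pow_lt_pow_right (by norm_num) (by omega)
        omega
      · exact h
  have h1 : g * q * g⁻¹ ∈ T := conj_mem_of_mem_normalizer hgN hq
  have h2 : ∀ u ∈ T, u ∈ A → g * q * g⁻¹ * u = u * (g * q * g⁻¹) := by
    intro u hu huA
    have h3 : g⁻¹ * u * g ∈ P1 :=
      conj_inv_mem_of_mem_normalizer hP1 (B.long.U_P1 (mem_inf.mpr ⟨hu, huA⟩))
    have h4 := B.comm_K (B.long.P1_A h3) hqK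
    exact comm_conj' h4 (by group)
  obtain ⟨z', hz', r', hr', hr'K, he⟩ := B.cent_U h1 h2
  have h3 := B.comm_K (B.Z_A hz') hr'K
  have h4 : s = r' * r' := by
    calc s = (g * q * g⁻¹) * (g * q * g⁻¹) := by rw [hs, ← hqt]; group
      _ = z' * (r' * z') * r' := by rw [he]; group
      _ = (z' * z') * (r' * r') := by rw [h3]; group
      _ = r' * r' := by rw [B.long.Z_two z' hz', one_mul]
  rcases B.isT.uniq s hsT (by rw [h4]; exact mul_mem hr'K hr'K) hss with h | h
  · apply B.t1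
    have : t = g⁻¹ * s * g := by rw [hs]; group
    rw [this, h]; group
  · exact hst h

end Base

end Cfsg.Agent.HexStart
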