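import Cfsg.Agent.HexStart.Mover

/-!
# S1778, types `G2(q)` and `3D4(q)`, `q ≥ 4`: `T` is not a Sylow 2-subgroup of `G`
-/

set_option autoImplicit false
set_option linter.unusedSectionVars false

namespace Cfsg.Agent.HexStart

open Cfsg Subgroup Cfsg.Agent.SignalizersComponents Cfsg.Agent.StdEven.Syl Cfsg.Agent.StdEven.Loc
open Cfsg.Agent.StdEven.Perf Cfsg.Agent.StdL2.Setup Cfsg.Agent.Schreier.Basic
open scoped commutatorElement

variable {G : Type*} [Group G]

/-- A nontrivial 2-subgroup normalised by a 2-group contains a nontrivial fixed element. -/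
theorem exists_fix [Finite G] {S N : Subgroup G} (hS : IsPGroup 2 S) (hN : IsPGroup 2 N)
    (hSN : ∀ s ∈ S, ∀ n ∈ N, s * n * s⁻¹ ∈ N) (hN1 : ∃ n ∈ N, n ≠ 1) : ∃ n ∈ N, n ≠ 1 ∧ ∀ s ∈ S, s * n = n * s := by
  have : Fact (Nat.Prime 2) := ⟨Nat.prime_two⟩
  have hSn : ∀ s ∈ S, s ∈ normalizer (N : Set G) := fun s hs => mem_normalizer_of_conj_le (hSN s hs)
  let act : MulAction S N :=
    { smul := fun s n => ⟨s * n * (s : G)⁻¹, hSN s s.2 n n.2⟩
      one_smul := fun n => Subtype.ext (by show (1 : G) * n * (1 : G)⁻¹ = n; group)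
      mul_smul := fun a b n => Subtype.ext (by
        show ((a * b : S) : G) * n * ((a * b : S) : G)⁻¹ = a * (b * n * (b : G)⁻¹) * (a : G)⁻¹
        push_cast
        group) }
  obtain ⟨k, hk⟩ := hN.exists_card_eq
  have h2 : 2 ∣ Nat.card N := by
    rw [hk]
    refine dvd_pow_self 2 ?_
    rintro rfl
    rw [pow_zero] at hk
    obtain ⟨n, hn, hn1⟩ := hN1
    have : Subsingleton N := (Nat.card_eq_one_iff_unique.mp hk).1
    exact hn1 (congrArg Subtype.val (Subsingleton.elim (⟨n, hn⟩ : N) 1))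
  have h1 : (1 : N) ∈ MulAction.fixedPoints S N := by
    intro s
    apply Subtype.ext
    show (s : G) * (1 : G) * (s : G)⁻¹ = 1
    group
  obtain ⟨n, hn, hn1⟩ := hS.exists_fixed_point_of_prime_dvd_card_of_fixed_point N h2 h1
  refine ⟨n, n.2, fun h => hn1 (Subtype.ext h.symm), fun s hs => ?_⟩
  have h3 := congrArg Subtype.val (hn ⟨s, hs⟩)
  have h4 : s * (n : G) * s⁻¹ = n := h3
  rwa [mul_inv_eq_iff_eq_mul] at h4

namespace Base

variable [Finite G] {L A : Subgroup G} {t : G} {T P1 Z : Subgroup G} (B : Base L A t T P1 Z)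
include B

theorem t_sq {g : G} : g * t * g⁻¹ * (g * t * g⁻¹) = 1 := by
  calc g * t * g⁻¹ * (g * t * g⁻¹) = g * (t * t) * g⁻¹ := by group
    _ = 1 := by rw [B.tt]; group

/-- **(a)** `t` is not conjugate to `t z`, `z ∈ Z#`, if `T` is a Sylow 2-subgroup of `G`. -/
theorem not_conj_tZ (hsyl : IsSyl T ⊤) {g z : G} (hz : z ∈ Z) (hz1 : z ≠ 1) (hg : g * t * g⁻¹ = t * z) : False := by
  -- `T` normalises `T ⊓ A` and `Z`
  have hTA : ∀ x ∈ T, ∀ a ∈ A, x * a * x⁻¹ ∈ A := fun x hx a ha => conj_mem_of_mem_normalizer (B.isT.norm hx) ha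
  have hTU : ∀ x ∈ T, ∀ u ∈ T ⊓ A, x * u * x⁻¹ ∈ T ⊓ A := fun x hx u hu =>
    mem_inf.mpr ⟨mul_mem (mul_mem hx hu.1) (inv_mem hx), hTA x hx u hu.2⟩
  have hTZ : ∀ x ∈ T, ∀ z ∈ Z, x * z * x⁻¹ ∈ Z := by
    intro x hx z hz
    obtain ⟨h1, h2⟩ := (B.long.Z_iff z).mp hz
    refine (B.long.Z_iff _).mpr ⟨hTU x hx z h1, fun u hu => ?_⟩
    have h3 : x⁻¹ * u * x ∈ T ⊓ A := by
      have := hTU x⁻¹ (inv_mem hx) u hu
      rwa [inv_inv] at this
    exact comm_conj' (h2 _ h3).symm.symm (by group)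
  -- a central element of `T` in `Z`
  have hZ2 : IsPGroup 2 Z := fun w => ⟨1, Subtype.ext (by
    show (w : G) ^ 2 ^ 1 = 1
    rw [pow_one, pow_two]; exact B.long.Z_two w w.2)⟩
  obtain ⟨z1, hz1Z, hz11, hz1T⟩ := exists_fix B.isT.syl.two hZ2 hTZ ⟨z, hz, hz1⟩
  obtain ⟨h, hhA, hhU, hhz⟩ := B.long.trans z hz z1 hz1Z hz1 hz11
  -- `t ~ t z1`
  have hht : h * t = t * h := B.comm_A hhA
  have hconj : (h * g) * t * (h * g)⁻¹ = t * z1 := by
    calc (h * g) * t * (h * g)⁻¹ = h * (g * t * g⁻¹) * h⁻¹ := by group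
      _ = (h * t) * z * h⁻¹ := by rw [hg]; group
      _ = t * (h * z * h⁻¹) := by rw [hht]; group
      _ = t * z1 := by rw [hhz]
  -- Burnside
  have hs : ∀ x ∈ T, x * (t * z1) = t * z1 * x := by
    intro x hx
    calc x * (t * z1) = (x * t) * z1 := by group
      _ = t * (x * z1) := by rw [B.isT.cent x hx]; group
      _ = t * z1 * x := by rw [hz1T x hx]; group
  have hTs : IsSyl T (centralizer ({t * z1} : Set G)) := hsyl.mono (fun x hx => by
    rw [mem_centralizer_singleton_iff]; exact hs x hx) le_top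
  have hT' : T.map (MulAut.conj (h * g)).toMonoidHom ≤ centralizer ({t * z1} : Set G) := by
    rintro _ ⟨x, hx, rfl⟩
    rw [mem_centralizer_singleton_iff]
    show h * g * x * (h * g)⁻¹ * (t * z1) = t * z1 * (h * g * x * (h * g)⁻¹)
    exact comm_conj' (B.isT.cent x hx) hconj
  obtain ⟨c, hc, hcT⟩ := hTs.exists_conj (isPGroup_map B.isT.syl.two (h * g)) hT'
  rw [mem_centralizer_singleton_iff] at hc
  set n := c * (h * g) with hn
  have hnT : n ∈ normalizer (T : Set G) := mem_normalizer_of_conj_le fun x hx => by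
    have h1 := hcT _ (conj_mem_map (h * g) hx)
    have h2 : n * x * n⁻¹ = c * (h * g * x * (h * g)⁻¹) * c⁻¹ := by rw [hn]; group
    rw [h2]; exact h1
  have hnt : n * t * n⁻¹ = t * z1 := by
    calc n * t * n⁻¹ = c * (h * g * t * (h * g)⁻¹) * c⁻¹ := by rw [hn]; group
      _ = t * z1 := by rw [hconj, hc]; group
  -- the centre of `T`
  let V : Subgroup G := T ⊓ centralizer (T : Set G)
  let W : Subgroup G := Z ⊓ centralizer (T : Set G)
  have hV : ∀ x ∈ V, ∀ y ∈ V, x * y = y * x := fun x hx y hy => comm_of_centralizer hx.2 hy.1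
  have hNV : ∀ n ∈ normalizer (T : Set G), ∀ v ∈ V, n * v * n⁻¹ ∈ V := fun n hn v hv =>
    mem_inf.mpr ⟨conj_mem_of_mem_normalizer hn hv.1,
      conj_mem_of_mem_normalizer (normalizer_le_normalizer_centralizer T hn) hv.2⟩
  have htV : t ∈ V := by
    refine mem_inf.mpr ⟨B.isT.mem, ?_⟩
    rw [mem_centralizer_iff]
    exact fun j hj => B.isT.cent j hj
  have horb : ∀ n ∈ normalizer (T : Set G), t * (n * t * n⁻¹) ∈ W := by
    intro n hn
    have h1 := hNV n hn t htV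
    have h2 := (B.cent_U_sq h1.1 (fun u hu _ => comm_of_centralizer h1.2 hu) B.t_sq).resolve_left
      fun h => B.not_conj_Z h
    refine mem_inf.mpr ⟨h2, mul_mem htV.2 h1.2⟩
  obtain ⟨w, hw, hfix⟩ := StdEven.Avg.exists_fixed (N := normalizer (T : Set G)) hV hNV
    ((hsyl.mono le_normalizer le_top).odd_relIndex) htV B.isT.cent B.tt horb
  by_cases hw1 : w = 1
  · have h1 := hfix n hnT
    rw [hw1, mul_one] at h1
    have h2 : n * t * n⁻¹ = t := conj_eq_iff.mpr h1
    rw [h2] at hnt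
    exact hz11 (left_eq_mul.mp hnt)
  · -- `t w` is `N(T)`-conjugate to `t`
    obtain ⟨h', hh'A, hh'U, hh'z⟩ := B.long.trans z1 hz1Z w hw.1 hz11 hw1
    have hh't : h' * t = t * h' := B.comm_A hh'A
    -- `T` and its conjugate under `h'` are Sylow subgroups of `C(t, w)`
    let K : Subgroup G := centralizer ({t} : Set G) ⊓ centralizer ({w} : Set G)
    have hTK : T ≤ K := fun x hx => by
      rw [mem_inf, mem_centralizer_singleton_iff, mem_centralizer_singleton_iff]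
      exact ⟨B.isT.cent x hx, (comm_of_centralizer hw.2 hx).symm⟩
    have hsylK : IsSyl T K := hsyl.mono hTK le_top
    have hTK' : T.map (MulAut.conj h').toMonoidHom ≤ K := by
      rintro _ ⟨x, hx, rfl⟩
      rw [mem_inf, mem_centralizer_singleton_iff, mem_centralizer_singleton_iff]
      show h' * x * h'⁻¹ * t = t * (h' * x * h'⁻¹) ∧ h' * x * h'⁻¹ * w = w * (h' * x * h'⁻¹)
      exact ⟨comm_conj' (B.isT.cent x hx) (conj_eq_iff.mpr hh't), comm_conj' (hz1T x hx) hh'z⟩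
    obtain ⟨c', hc', hcT'⟩ := hsylK.exists_conj (isPGroup_map B.isT.syl.two h') hTK'
    rw [mem_inf, mem_centralizer_singleton_iff, mem_centralizer_singleton_iff] at hc'
    have hmT : c' * h' ∈ normalizer (T : Set G) := mem_normalizer_of_conj_le fun x hx => by
      have h1 := hcT' _ (conj_mem_map h' hx)
      have h2 : c' * h' * x * (c' * h')⁻¹ = c' * (h' * x * h'⁻¹) * c'⁻¹ := by group
      rw [h2]; exact h1
    have hmt : (c' * h') * (t * z1) * (c' * h')⁻¹ = t * w := by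
      calc (c' * h') * (t * z1) * (c' * h')⁻¹ = c' * ((h' * t) * z1 * h'⁻¹) * c'⁻¹ := by group
        _ = c' * (t * (h' * z1 * h'⁻¹)) * c'⁻¹ := by rw [hh't]; group
        _ = (c' * t) * w * c'⁻¹ := by rw [hh'z]; group
        _ = t * (c' * w) * c'⁻¹ := by rw [hc'.1]; group
        _ = t * w := by rw [hc'.2]; group
    have hm := mul_mem hmT hnT
    have h1 := hfix _ (inv_mem hm)
    have h2 : (c' * h' * n) * t * (c' * h' * n)⁻¹ = t * w := by
      calc (c' * h' * n) * t * (c' * h' * n)⁻¹ = (c' * h') * (n * t * n⁻¹) * (c' * h')⁻¹ := by group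
        _ = t * w := by rw [hnt, hmt]
    have h3 : t = t * w := by
      calc t = (c' * h' * n)⁻¹ * (c' * h' * n * t * (c' * h' * n)⁻¹) * (c' * h' * n) := by group
        _ = (c' * h' * n)⁻¹ * (t * w) * (c' * h' * n) := by rw [h2]
        _ = t * w := by rw [h1]; group
    exact hw1 (left_eq_mul.mp h3)

/-- the normal 2-subgroups of `P1` meet `Z` -/
theorem fix_P1 {N : Subgroup G} (hN : N ≤ P1) (hN2 : IsPGroup 2 N) (hPN : ∀ p ∈ P1, ∀ n ∈ N, p * n * p⁻¹ ∈ N)
    (hN1 : ∃ n ∈ N, n ≠ 1) : ∃ n ∈ N, n ≠ 1 ∧ n ∈ Z := by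
  have hU := B.isT.sylA
  have hU2 : IsPGroup 2 ↥(T ⊓ A) := hU.two
  obtain ⟨n, hn, hn1, hnU⟩ := exists_fix hU2 hN2 (fun s hs => hPN s (B.long.U_P1 hs)) hN1
  refine ⟨n, hn, hn1, (B.long.Z_iff n).mpr ⟨?_, fun u hu => (hnU u hu).symm⟩⟩
  have h1 : (T ⊓ A) ⊔ zpowers n = T ⊓ A := by
    apply hU.max _ _ (sup_le hU.le ((zpowers_le).mpr (B.long.P1_A (hN hn)))) le_sup_left
    have h2 : zpowers n ≤ normalizer ((T ⊓ A : Subgroup G) : Set G) := by
      rw [zpowers_le]
      apply mem_normalizer_of_conj_le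
      intro u hu
      have h3 : n * u * n⁻¹ = u := by rw [← hnU u hu]; group
      rw [h3]; exact hu
    rw [sup_comm]
    exact (hN2.to_le ((zpowers_le).mpr hn)).to_sup_of_normal_right' hU2 h2
  rw [← h1]
  exact (le_sup_right : zpowers n ≤ _) (mem_zpowers n)

end Base

end Cfsg.Agent.HexStart
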