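import Cfsg.Agent.HexStart.NotSyl

/-!
# S1778, types `G2(q)` and `3D4(q)`, `q ≥ 4`: `t` is not conjugate to a short involution `a` or to `t a`

Hypothesis `hZ`: `t` is not conjugate to `t z`, `z ∈ Z#`.
-/

set_option autoImplicit false
set_option linter.unusedSectionVars false

namespace Cfsg.Agent.HexStart

open Cfsg Subgroup Cfsg.Agent.SignalizersComponents Cfsg.Agent.StdEven.Syl Cfsg.Agent.StdEven.Loc
open Cfsg.Agent.StdEven.Perf Cfsg.Agent.StdL2.Setup Cfsg.Agent.Schreier.Basic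
open scoped commutatorElement

variable {G : Type*} [Group G]

/-- Conjugation of `Mc`. -/
theorem conj_Mc {s t s' t' g : G} (hs : g * s * g⁻¹ = s') (ht : g * t * g⁻¹ = t') {x : G} (hx : x ∈ Mc s t) :
    g * x * g⁻¹ ∈ Mc s' t' := by
  have h1 : (Mc s t).map (MulAut.conj g).toMonoidHom ≤ Mc s' t' := by
    apply le_Mc ((P2_Mc s t).map g)
    rintro _ ⟨y, hy, rfl⟩
    obtain ⟨h1, h2⟩ := Mc_comm hy
    exact ⟨comm_conj' h1 hs, comm_conj' h2 ht⟩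
  exact h1 ⟨x, hx, rfl⟩

theorem Mc_le_of {s t s' t' : G} (h : ∀ x : G, x * s = s * x → x * t = t * x → x * s' = s' * x ∧ x * t' = t' * x) :
    Mc s t ≤ Mc s' t' := le_Mc (P2_Mc s t) fun x hx => h x (Mc_comm hx).1 (Mc_comm hx).2

namespace Base

variable [Finite G] {L A : Subgroup G} {t : G} {T P1 Z : Subgroup G} (B : Base L A t T P1 Z)
  {a : G} {W Y D : Subgroup G} (F : ShortF A Z a W Y D)
include B F

theorem Mc_A {s : G} : Mc t s ≤ A := B.le_A (P2_Mc t s) fun x hx => (Mc_comm hx).1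

theorem D_Mc : D ≤ Mc t a := le_Mc F.D_P2 fun x hx => ⟨B.comm_A (F.D_A hx), F.D_a x hx⟩

theorem Mc_W {m w : G} (hm : m ∈ Mc t a) (hw : w ∈ W) : m * w * m⁻¹ ∈ W :=
  F.W_norm m (B.Mc_A F hm) (Mc_comm hm).2 w hw

theorem Mc_Y {m y : G} (hm : m ∈ Mc t a) (hy : y ∈ Y) : m * y * m⁻¹ ∈ Y :=
  F.Y_norm m (B.Mc_A F hm) (Mc_comm hm).2 y hy

/-- `Y ⊓ M` centralises every nontrivial elementary abelian normal 2-subgroup of `M` on which `M` is transitive. -/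
theorem Y_cent {W' : Subgroup G} (hW2 : ∀ w ∈ W', w * w = 1) (hW1 : ∃ w ∈ W', w ≠ 1)
    (hn : ∀ m ∈ Mc t a, ∀ w ∈ W', m * w * m⁻¹ ∈ W')
    (htr : ∀ w ∈ W', ∀ w' ∈ W', w ≠ 1 → w' ≠ 1 → ∃ d ∈ Mc t a, d * w * d⁻¹ = w') :
    ∀ w ∈ W', ∀ y ∈ Y, y ∈ Mc t a → y * w = w * y := by
  have hW'2 : IsPGroup 2 W' := fun w => ⟨1, Subtype.ext (by
    show (w : G) ^ 2 ^ 1 = 1
    rw [pow_one, pow_two]; exact hW2 w w.2)⟩
  obtain ⟨w0, hw0, hw01, hw0Y⟩ := exists_fix (S := Y ⊓ Mc t a) (F.Y_two.to_le inf_le_left) hW'2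
    (fun y hy w hw => hn y hy.2 w hw) hW1
  intro w hw y hy hyM
  by_cases hw1 : w = 1
  · rw [hw1, mul_one, one_mul]
  · obtain ⟨d, hd, hdw⟩ := htr w0 hw0 w hw hw01 hw1
    have h1 : d⁻¹ * y * d ∈ Y := by
      have := B.Mc_Y F (inv_mem hd) hy
      rwa [inv_inv] at this
    have h2 := hw0Y _ (mem_inf.mpr ⟨h1, mul_mem (mul_mem (inv_mem hd) hyM) hd⟩)
    rw [← hdw]
    calc y * (d * w0 * d⁻¹) = d * (d⁻¹ * y * d * w0) * d⁻¹ := by group
      _ = d * (w0 * (d⁻¹ * y * d)) * d⁻¹ := by rw [h2]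
      _ = d * w0 * d⁻¹ * y := by group

/-- The outer case is impossible. -/
theorem short_outer {t' g : G} (ht' : ∀ x : G, x * t = t * x → (x * t' = t' * x ↔ x * a = a * x))
    (hg : g * t * g⁻¹ = t') {f : G} (hf : g * f * g⁻¹ = t) {E : Subgroup G} (hE : P2 E) (hEA : E ≤ A)
    (hEf : ∀ x ∈ E, x * f = f * x)
    {P : Subgroup G} (hPE : P ≤ E) (hP : IsPGroup 2 P) {p r : G} (hp : p ∈ P) (hr : r ∈ P)
    (hEN : ∀ N : Subgroup G, N ≤ E → IsPGroup 2 N → (∀ b ∈ E, ∀ n ∈ N, b * n * b⁻¹ ∈ N) → ⁅p, r⁆ ∉ N) :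
    False := by
  -- `g E g⁻¹ ≤ M`
  have hEM : ∀ x ∈ E, g * x * g⁻¹ ∈ Mc t a := by
    have h1 : E.map (MulAut.conj g).toMonoidHom ≤ Mc t a := by
      apply le_Mc (hE.map g)
      rintro _ ⟨x, hx, rfl⟩
      have h1 : g * x * g⁻¹ * t = t * (g * x * g⁻¹) := comm_conj' (hEf x hx) hf
      have h2 : g * x * g⁻¹ * t' = t' * (g * x * g⁻¹) := comm_conj' (B.comm_A (hEA hx)) hg
      exact ⟨h1, (ht' _ h1).mp h2⟩
    exact fun x hx => h1 ⟨x, hx, rfl⟩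
  let N : Subgroup G :=
    { carrier := {x | x ∈ E ∧ ∀ w ∈ W, g * x * g⁻¹ * w = w * (g * x * g⁻¹)}
      mul_mem' := by
        rintro x y ⟨hx, hx'⟩ ⟨hy, hy'⟩
        refine ⟨mul_mem hx hy, fun w hw => ?_⟩
        calc g * (x * y) * g⁻¹ * w = g * x * g⁻¹ * (g * y * g⁻¹ * w) := by group
          _ = g * x * g⁻¹ * w * (g * y * g⁻¹) := by rw [hy' w hw]; group
          _ = w * (g * (x * y) * g⁻¹) := by rw [hx' w hw]; group
      one_mem' := ⟨one_mem _, fun w _ => by group⟩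
      inv_mem' := by
        rintro x ⟨hx, hx'⟩
        refine ⟨inv_mem hx, fun w hw => ?_⟩
        calc g * x⁻¹ * g⁻¹ * w = (g * x * g⁻¹)⁻¹ * (w * (g * x * g⁻¹)) * (g * x * g⁻¹)⁻¹ := by group
          _ = (g * x * g⁻¹)⁻¹ * (g * x * g⁻¹ * w) * (g * x * g⁻¹)⁻¹ := by rw [hx' w hw]
          _ = w * (g * x⁻¹ * g⁻¹) := by group }
  have hN2 : IsPGroup 2 N := by
    rintro ⟨x, hx, hx'⟩
    have h1 := hEM x hx
    have h2 : g * x * g⁻¹ ∈ A ⊓ centralizer ({a} : Set G) ⊓ centralizer (W : Set G) := by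
      rw [mem_inf, mem_inf, mem_centralizer_singleton_iff, mem_centralizer_iff]
      exact ⟨⟨B.Mc_A F h1, (Mc_comm h1).2⟩, fun w hw => (hx' w hw).symm⟩
    obtain ⟨k, hk⟩ := F.two ⟨_, h2⟩
    have hk : (g * x * g⁻¹) ^ 2 ^ k = 1 := congrArg Subtype.val hk
    refine ⟨k, Subtype.ext ?_⟩
    show x ^ 2 ^ k = 1
    rw [conj_pow] at hk
    have : x ^ 2 ^ k = g⁻¹ * (g * x ^ 2 ^ k * g⁻¹) * g := by group
    rw [this, hk]; group
  have hNn : ∀ b ∈ E, ∀ n ∈ N, b * n * b⁻¹ ∈ N := by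
    rintro b hb n ⟨hn, hn'⟩
    refine ⟨mul_mem (mul_mem hb hn) (inv_mem hb), fun w hw => ?_⟩
    have h1 := hEM b hb
    have h2 : (g * b * g⁻¹)⁻¹ * w * (g * b * g⁻¹) ∈ W := by
      have := B.Mc_W F (inv_mem h1) hw
      rwa [inv_inv] at this
    have h3 := hn' _ h2
    calc g * (b * n * b⁻¹) * g⁻¹ * w =
        (g * b * g⁻¹) * (g * n * g⁻¹ * ((g * b * g⁻¹)⁻¹ * w * (g * b * g⁻¹))) * (g * b * g⁻¹)⁻¹ := by group
      _ = (g * b * g⁻¹) * ((g * b * g⁻¹)⁻¹ * w * (g * b * g⁻¹) * (g * n * g⁻¹)) * (g * b * g⁻¹)⁻¹ := by rw [h3]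
      _ = w * (g * (b * n * b⁻¹) * g⁻¹) := by group
  -- the commutator of `p` and `r`
  apply hEN N (fun x hx => hx.1) hN2 hNn
  have h1 : ⁅p, r⁆ ∈ N := by
    refine ⟨?_, fun w hw => ?_⟩
    · rw [commutatorElement_def]
      exact mul_mem (mul_mem (mul_mem (hPE hp) (hPE hr)) (inv_mem (hPE hp))) (inv_mem (hPE hr))
    · have h2 := F.comm (P.map (MulAut.conj g).toMonoidHom) (isPGroup_map hP g) (by
        rintro _ ⟨x, hx, rfl⟩
        exact B.Mc_A F (hEM x (hPE hx))) (by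
        rintro _ ⟨x, hx, rfl⟩
        exact (Mc_comm (hEM x (hPE hx))).2) (g * p * g⁻¹) (conj_mem_map g hp) (g * r * g⁻¹) (conj_mem_map g hr) w hw
      have h3 : ⁅g * p * g⁻¹, g * r * g⁻¹⁆ = g * ⁅p, r⁆ * g⁻¹ := by
        rw [commutatorElement_def, commutatorElement_def]; group
      rwa [h3] at h2
  exact h1

/-- The long case is impossible. -/
theorem short_long {t' g : G} (ht' : ∀ x : G, x * t = t * x → (x * t' = t' * x ↔ x * a = a * x))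
    (hg : g * t * g⁻¹ = t') {f v c : G} (hf : g * f * g⁻¹ = t) (hfv : f = v ∨ f = t * v)
    (hc : c ∈ A) (hv : c * v * c⁻¹ ∈ Z) (hv1 : v ≠ 1) : False := by
  have hct : c * t = t * c := B.comm_A hc
  have hct' : c⁻¹ * t = t * c⁻¹ := B.comm_A (inv_mem hc)
  have hcv1 : c * v * c⁻¹ ≠ 1 := by
    intro h
    apply hv1
    have : v = c⁻¹ * (c * v * c⁻¹) * c := by group
    rw [this, h]; group
  have hfv' : ∀ x : G, x * t = t * x → (x * f = f * x ↔ x * v = v * x) := by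
    intro x hx
    rcases hfv with h | h
    · rw [h]
    · rw [h]
      constructor
      · intro h1
        have h2 : t * (x * v) = t * (v * x) := by
          calc t * (x * v) = x * (t * v) := by rw [← mul_assoc, ← hx, mul_assoc]
            _ = t * (v * x) := by rw [h1]; group
        exact mul_left_cancel h2
      · intro h1
        calc x * (t * v) = (x * t) * v := by group
          _ = t * (x * v) := by rw [hx]; group
          _ = t * v * x := by rw [h1]; group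
  -- `k = c g⁻¹` maps `M` onto `P1`
  set k := c * g⁻¹ with hk
  have hk1 : ∀ m ∈ Mc t a, k * m * k⁻¹ ∈ P1 := by
    have h1 : (Mc t a).map (MulAut.conj k).toMonoidHom ≤ P1 := by
      have h2 := (P2_Mc t a).map k
      have h3 : ∀ x ∈ (Mc t a).map (MulAut.conj k).toMonoidHom,
          x * t = t * x ∧ x * (c * v * c⁻¹) = c * v * c⁻¹ * x := by
        rintro _ ⟨m, hm, rfl⟩
        show k * m * k⁻¹ * t = t * (k * m * k⁻¹) ∧ k * m * k⁻¹ * (c * v * c⁻¹) = c * v * c⁻¹ * (k * m * k⁻¹)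
        obtain ⟨h4, h5⟩ := Mc_comm hm
        have h6 : m * t' = t' * m := (ht' m h4).mpr h5
        have h7 : g⁻¹ * m * g⁻¹⁻¹ * t = t * (g⁻¹ * m * g⁻¹⁻¹) := comm_conj' h6 (by rw [← hg]; group)
        have h8 : g⁻¹ * m * g⁻¹⁻¹ * f = f * (g⁻¹ * m * g⁻¹⁻¹) := comm_conj' h4 (by rw [← hf]; group)
        have h9 := (hfv' _ h7).mp h8
        have h10 : k * m * k⁻¹ = c * (g⁻¹ * m * g⁻¹⁻¹) * c⁻¹ := by rw [hk]; group
        rw [h10]
        exact ⟨comm_conj' h7 (conj_eq_iff.mpr hct), comm_conj h9⟩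
      have h4 : (Mc t a).map (MulAut.conj k).toMonoidHom ≤ A := B.le_A h2 fun x hx => (h3 x hx).1
      exact h2.mem_of_two fun x hx hx2 => B.long.P1_max _ hv hcv1 x (h4 hx) (h3 x hx).2 hx2
    exact fun m hm => h1 ⟨m, hm, rfl⟩
  have hk2 : ∀ p ∈ P1, k⁻¹ * p * k ∈ Mc t a := by
    have h1 : P1.map (MulAut.conj k⁻¹).toMonoidHom ≤ Mc t a := by
      apply le_Mc (B.long.P1_P2.map k⁻¹)
      rintro _ ⟨p, hp, rfl⟩
      show k⁻¹ * p * k⁻¹⁻¹ * t = t * (k⁻¹ * p * k⁻¹⁻¹) ∧ k⁻¹ * p * k⁻¹⁻¹ * a = a * (k⁻¹ * p * k⁻¹⁻¹)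
      have h4 : c⁻¹ * p * c⁻¹⁻¹ * t = t * (c⁻¹ * p * c⁻¹⁻¹) :=
        comm_conj' (B.comm_A (B.long.P1_A hp)) (conj_eq_iff.mpr hct')
      have h5 : c⁻¹ * p * c⁻¹⁻¹ * v = v * (c⁻¹ * p * c⁻¹⁻¹) := comm_conj' (B.long.P1_Z p hp _ hv) (by group)
      have h6 := (hfv' _ h4).mpr h5
      have h7 : k⁻¹ * p * k⁻¹⁻¹ = g * (c⁻¹ * p * c⁻¹⁻¹) * g⁻¹ := by rw [hk]; group
      rw [h7]
      have h8 := comm_conj' h6 hf
      exact ⟨h8, (ht' _ h8).mp (comm_conj' h4 hg)⟩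
    intro p hp
    have := h1 ⟨p, hp, rfl⟩
    have h2 : (MulAut.conj k⁻¹).toMonoidHom p = k⁻¹ * p * k⁻¹⁻¹ := rfl
    rwa [h2, inv_inv] at this
  -- `k W k⁻¹` is a normal 2-subgroup of `P1`
  have hWM : ∀ w ∈ W, w ∈ Mc t a := fun w hw => B.D_Mc F (F.W_D hw)
  have hW2 : IsPGroup 2 W := fun w => ⟨1, Subtype.ext (by
    show (w : G) ^ 2 ^ 1 = 1
    rw [pow_one, pow_two]; exact F.W_sq w w.2)⟩
  obtain ⟨w1, hw1, w2, hw2, hw11, hw21, hw12⟩ := F.W_ne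
  obtain ⟨n, hn, hn1, hnZ⟩ := B.fix_P1 (N := W.map (MulAut.conj k).toMonoidHom) (by
    rintro _ ⟨w, hw, rfl⟩
    exact hk1 w (hWM w hw)) (isPGroup_map hW2 k) (by
    rintro p hp _ ⟨w, hw, rfl⟩
    refine ⟨k⁻¹ * p * k * w * (k⁻¹ * p * k)⁻¹, B.Mc_W F (hk2 p hp) hw, ?_⟩
    show k * (k⁻¹ * p * k * w * (k⁻¹ * p * k)⁻¹) * k⁻¹ = p * (k * w * k⁻¹) * p⁻¹
    group) ⟨k * w1 * k⁻¹, ⟨w1, hw1, rfl⟩, fun h => hw11 (by
      have : w1 = k⁻¹ * (k * w1 * k⁻¹) * k := by group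
      rw [this, h]; group)⟩
  obtain ⟨w0, hw0, rfl⟩ := hn
  have hw01 : w0 ≠ 1 := by
    rintro rfl
    apply hn1
    exact map_one _
  have key : ∀ w ∈ W, w ≠ 1 → w = w0 := by
    intro w hw hw1'
    obtain ⟨d, hd, hdw⟩ := F.trans w0 hw0 w hw hw01 hw1'
    have h1 := hk1 d (B.D_Mc F hd)
    have h2 : k * d * k⁻¹ * (k * w0 * k⁻¹) = k * w0 * k⁻¹ * (k * d * k⁻¹) := B.long.P1_Z _ h1 _ hnZ
    have h3 : d * w0 = w0 * d := by
      calc d * w0 = k⁻¹ * (k * d * k⁻¹ * (k * w0 * k⁻¹)) * k := by group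
        _ = k⁻¹ * (k * w0 * k⁻¹ * (k * d * k⁻¹)) * k := by rw [h2]
        _ = w0 * d := by group
    rw [← hdw, h3]; group
  exact hw12 ((key w1 hw1 hw11).trans (key w2 hw2 hw21).symm)

/-- The short case. -/
theorem short_short (hZ : ∀ g z : G, z ∈ Z → z ≠ 1 → g * t * g⁻¹ ≠ t * z)
    {t' g : G} (ht' : ∀ x : G, x * t = t * x → (x * t' = t' * x ↔ x * a = a * x))
    (hg : g * t * g⁻¹ = t') {f v c : G} (hf : g * f * g⁻¹ = t) (hfv : f = v ∨ f = t * v)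
    (hc : c ∈ A) (hv : c * v * c⁻¹ = a) : False := by
  have hct : c * t = t * c := B.comm_A hc
  have hct' : c⁻¹ * t = t * c⁻¹ := B.comm_A (inv_mem hc)
  have hfv' : ∀ x : G, x * t = t * x → (x * f = f * x ↔ x * v = v * x) := by
    intro x hx
    rcases hfv with h | h
    · rw [h]
    · rw [h]
      constructor
      · intro h1
        have h2 : t * (x * v) = t * (v * x) := by
          calc t * (x * v) = x * (t * v) := by rw [← mul_assoc, ← hx, mul_assoc]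
            _ = t * (v * x) := by rw [h1]; group
        exact mul_left_cancel h2
      · intro h1
        calc x * (t * v) = (x * t) * v := by group
          _ = t * (x * v) := by rw [hx]; group
          _ = t * v * x := by rw [h1]; group
  -- `k = g c⁻¹` normalises `M`
  set k := g * c⁻¹ with hk
  have hvc : c⁻¹ * a * c⁻¹⁻¹ = v := by rw [← hv]; group
  have hk1 : ∀ m ∈ Mc t a, k * m * k⁻¹ ∈ Mc t a := by
    intro m hm
    have h1 : (Mc t a).map (MulAut.conj k).toMonoidHom ≤ Mc t a := by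
      apply le_Mc ((P2_Mc t a).map k)
      rintro _ ⟨m, hm, rfl⟩
      show k * m * k⁻¹ * t = t * (k * m * k⁻¹) ∧ k * m * k⁻¹ * a = a * (k * m * k⁻¹)
      obtain ⟨h4, h5⟩ := Mc_comm hm
      have h6 : c⁻¹ * m * c⁻¹⁻¹ * t = t * (c⁻¹ * m * c⁻¹⁻¹) := comm_conj' h4 (conj_eq_iff.mpr hct')
      have h7 : c⁻¹ * m * c⁻¹⁻¹ * v = v * (c⁻¹ * m * c⁻¹⁻¹) := comm_conj' h5 hvc
      have h8 := (hfv' _ h6).mpr h7
      have h9 : k * m * k⁻¹ = g * (c⁻¹ * m * c⁻¹⁻¹) * g⁻¹ := by rw [hk]; group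
      rw [h9]
      have h10 := comm_conj' h8 hf
      exact ⟨h10, (ht' _ h10).mp (comm_conj' h6 hg)⟩
    exact h1 ⟨m, hm, rfl⟩
  have hk2 : ∀ m ∈ Mc t a, k⁻¹ * m * k ∈ Mc t a := by
    have h1 : k ∈ normalizer (Mc t a : Set G) := mem_normalizer_of_conj_le hk1
    exact fun m hm => conj_inv_mem_of_mem_normalizer h1 hm
  -- `W' = k W k⁻¹`
  set W' := W.map (MulAut.conj k).toMonoidHom with hW'
  have hkt : k * t * k⁻¹ = t' := by
    calc k * t * k⁻¹ = g * (c⁻¹ * t) * c * g⁻¹ := by rw [hk]; group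
      _ = g * t * g⁻¹ := by rw [hct']; group
      _ = t' := hg
  have hka : k * a * k⁻¹ = g * v * g⁻¹ := by
    calc k * a * k⁻¹ = g * (c⁻¹ * a * c⁻¹⁻¹) * g⁻¹ := by rw [hk]; group
      _ = g * v * g⁻¹ := by rw [hvc]
  -- `t ~ t w'`
  have hfuse : ∀ w' ∈ W', ∃ y : G, y * t * y⁻¹ = t * w' := by
    rintro _ ⟨w, hw, rfl⟩
    obtain ⟨y, hy, hya⟩ := F.W_conj w hw
    refine ⟨k * y * k⁻¹, ?_⟩
    show k * y * k⁻¹ * t * (k * y * k⁻¹)⁻¹ = t * (k * w * k⁻¹)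
    have hyt' : k * y * k⁻¹ * t' = t' * (k * y * k⁻¹) := comm_conj' (B.comm_A hy) hkt
    have h1 : k * y * k⁻¹ * (k * a * k⁻¹) * (k * y * k⁻¹)⁻¹ = k * a * k⁻¹ * (k * w * k⁻¹) := by
      calc k * y * k⁻¹ * (k * a * k⁻¹) * (k * y * k⁻¹)⁻¹ = k * (y * a * y⁻¹) * k⁻¹ := by group
        _ = k * a * k⁻¹ * (k * w * k⁻¹) := by rw [hya]; group
    rcases hfv with h | h
    · have h2 : t = k * a * k⁻¹ := by rw [hka, ← h, hf]
      rw [← h2] at h1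
      exact h1
    · have h2 : t = t' * (k * a * k⁻¹) := by
        calc t = g * f * g⁻¹ := hf.symm
          _ = g * t * g⁻¹ * (g * v * g⁻¹) := by rw [h]; group
          _ = t' * (k * a * k⁻¹) := by rw [hg, hka]
      calc k * y * k⁻¹ * t * (k * y * k⁻¹)⁻¹ = k * y * k⁻¹ * (t' * (k * a * k⁻¹)) * (k * y * k⁻¹)⁻¹ := by rw [← h2]
        _ = (k * y * k⁻¹ * t') * (k * a * k⁻¹) * (k * y * k⁻¹)⁻¹ := by group
        _ = t' * (k * y * k⁻¹ * (k * a * k⁻¹) * (k * y * k⁻¹)⁻¹) := by rw [hyt']; group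
        _ = t' * (k * a * k⁻¹) * (k * w * k⁻¹) := by rw [h1]; group
        _ = t * (k * w * k⁻¹) := by rw [← h2]
  -- `W ∩ W' = 1`
  have hint : ∀ w ∈ W, w ∈ W' → w = 1 := by
    intro w hw hw'
    by_contra hw1
    obtain ⟨y, hy⟩ := hfuse w hw'
    obtain ⟨c', hc', hcw⟩ := F.W_long w hw hw1
    refine hZ (c' * y) _ hcw (fun h => hw1 ?_) ?_
    · have : w = c'⁻¹ * (c' * w * c'⁻¹) * c' := by group
      rw [this, h]; group
    · have h1 := B.comm_A hc'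
      calc c' * y * t * (c' * y)⁻¹ = c' * (y * t * y⁻¹) * c'⁻¹ := by group
        _ = (c' * t) * w * c'⁻¹ := by rw [hy]; group
        _ = t * (c' * w * c'⁻¹) := by rw [h1]; group
  -- `W'` is normal in `M`
  have hWM : ∀ w ∈ W, w ∈ Mc t a := fun w hw => B.D_Mc F (F.W_D hw)
  have hW'M : ∀ w ∈ W', w ∈ Mc t a := by
    rintro _ ⟨w, hw, rfl⟩
    exact hk1 w (hWM w hw)
  have hW'n : ∀ m ∈ Mc t a, ∀ w ∈ W', m * w * m⁻¹ ∈ W' := by
    rintro m hm _ ⟨w, hw, rfl⟩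
    refine ⟨k⁻¹ * m * k * w * (k⁻¹ * m * k)⁻¹, B.Mc_W F (hk2 m hm) hw, ?_⟩
    show k * (k⁻¹ * m * k * w * (k⁻¹ * m * k)⁻¹) * k⁻¹ = m * (k * w * k⁻¹) * m⁻¹
    group
  have hW'2 : ∀ w ∈ W', w * w = 1 := by
    rintro _ ⟨w, hw, rfl⟩
    show k * w * k⁻¹ * (k * w * k⁻¹) = 1
    calc k * w * k⁻¹ * (k * w * k⁻¹) = k * (w * w) * k⁻¹ := by group
      _ = 1 := by rw [F.W_sq w hw]; group
  have hcomm : ∀ w ∈ W, ∀ w' ∈ W', w * w' = w' * w := by
    intro w hw w' hw'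
    have h1 : w * w' * w⁻¹ * w'⁻¹ ∈ W' := mul_mem (hW'n w (hWM w hw) w' hw') (inv_mem hw')
    have h2 : w * w' * w⁻¹ * w'⁻¹ ∈ W := by
      have h3 := B.Mc_W F (hW'M w' hw') (inv_mem hw)
      have h4 : w * w' * w⁻¹ * w'⁻¹ = w * (w' * w⁻¹ * w'⁻¹) := by group
      rw [h4]; exact mul_mem hw h3
    have h3 := hint _ h2 h1
    rw [mul_inv_eq_one, mul_inv_eq_iff_eq_mul] at h3
    exact h3
  obtain ⟨w1, hw1, w2, hw2, hw11, hw21, hw12⟩ := F.W_ne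
  -- `Y` centralises `W` and `W'`
  have hYW := B.Y_cent F F.W_sq ⟨w1, hw1, hw11⟩ (fun m hm w hw => B.Mc_W F hm hw) (by
    intro w hw w' hw' h1 h2
    obtain ⟨d, hd, hdw⟩ := F.trans w hw w' hw' h1 h2
    exact ⟨d, B.D_Mc F hd, hdw⟩)
  have hYW' := B.Y_cent F hW'2 ⟨k * w1 * k⁻¹, ⟨w1, hw1, rfl⟩, fun h => hw11 (by
      have : w1 = k⁻¹ * (k * w1 * k⁻¹) * k := by group
      rw [this, h]; group)⟩ hW'n (by
    rintro _ ⟨w, hw, rfl⟩ _ ⟨w', hw', rfl⟩ h1 h2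
    obtain ⟨d, hd, hdw⟩ := F.trans w hw w' hw' (by rintro rfl; exact h1 (map_one _))
      (by rintro rfl; exact h2 (map_one _))
    refine ⟨k * d * k⁻¹, hk1 d (B.D_Mc F hd), ?_⟩
    show k * d * k⁻¹ * (k * w * k⁻¹) * (k * d * k⁻¹)⁻¹ = k * w' * k⁻¹
    rw [← hdw]; group)
  -- count
  have hmem : ∀ w ∈ W, ∀ w' ∈ W', w * w' ∈
      A ⊓ centralizer ({a} : Set G) ⊓ centralizer (W : Set G) ⊓ centralizer ((Y ⊓ D : Subgroup G) : Set G) := by
    intro w hw w' hw'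
    have hM := mul_mem (hWM w hw) (hW'M w' hw')
    rw [mem_inf, mem_inf, mem_inf, mem_centralizer_singleton_iff, mem_centralizer_iff, mem_centralizer_iff]
    refine ⟨⟨⟨B.Mc_A F hM, (Mc_comm hM).2⟩, fun x hx => ?_⟩, fun y hy => ?_⟩
    · calc x * (w * w') = (x * w) * w' := by group
        _ = w * (x * w') := by rw [F.W_comm x hx w hw]; group
        _ = w * w' * x := by rw [hcomm x hx w' hw']; group
    · have hyM := B.D_Mc F hy.2
      calc y * (w * w') = (y * w) * w' := by group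
        _ = w * (y * w') := by rw [hYW w hw y hy.1 hyM]; group
        _ = w * w' * y := by rw [hYW' w' hw' y hy.1 hyM]; group
  let φ : W × W' → ↥(A ⊓ centralizer ({a} : Set G) ⊓ centralizer (W : Set G) ⊓
      centralizer ((Y ⊓ D : Subgroup G) : Set G)) :=
    fun p => ⟨(p.1 : G) * (p.2 : G), hmem p.1 p.1.2 p.2 p.2.2⟩
  have hφ : Function.Injective φ := by
    rintro ⟨x, y⟩ ⟨x', y'⟩ h
    have h1 : (x : G) * y = x' * y' := congrArg Subtype.val h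
    have h2 : (x' : G)⁻¹ * x = y' * (y : G)⁻¹ := by
      calc (x' : G)⁻¹ * x = (x' : G)⁻¹ * (x * y) * (y : G)⁻¹ := by group
        _ = y' * (y : G)⁻¹ := by rw [h1]; group
    have h3 : (x' : G)⁻¹ * x ∈ W' := by
      rw [h2]; exact mul_mem y'.2 (inv_mem y.2)
    have h4 := hint _ (mul_mem (inv_mem x'.2) x.2) h3
    have h5 : (x : G) = x' := by
      calc (x : G) = x' * ((x' : G)⁻¹ * x) := by group
        _ = x' := by rw [h4, mul_one]
    rw [h5] at h1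
    have h6 := mul_left_cancel h1
    exact Prod.ext (Subtype.ext h5) (Subtype.ext h6)
  have h1 := Nat.card_le_card_of_injective φ hφ
  rw [Nat.card_prod] at h1
  have h2 : Nat.card W' = Nat.card W :=
    (Nat.card_congr (W.equivMapOfInjective (MulAut.conj k).toMonoidHom (MulAut.conj k).injective).toEquiv).symm
  rw [h2] at h1
  exact absurd F.small (not_lt.mpr h1)

end Base

end Cfsg.Agent.HexStart
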